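import Groth.Agent.AlgStBasic.Rep
import Groth.Agent.StkBase.FibProd
import Groth.Agent.StkBase.Yoneda
import Groth.Agent.StkBase.Psh

/-!
# Fibres of an affine representable functor over stacks as sections of affine schemes

For an affine `f : 𝒳 ⟶ 𝒴` and an object `y₀` of `𝒴`, pairs `(x, η : f x ⟶ y₀)` are classified by morphisms
into an affine scheme over the base of `y₀`.
-/

set_option autoImplicit false
set_option backward.isDefEq.respectTransparency false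
set_option backward.isDefEq.respectTransparency.types false

universe u

open CategoryTheory CategoryTheory.Limits AlgebraicGeometry Opposite
open Groth.StkBase

noncomputable section

namespace Groth.Misc13.ThetaAffine

variable {S : Scheme.{u}} {𝒳 𝒴 : AlgSt.Cat S}

/-- The pairs `(x, η : f x ⟶ y₀)` as morphisms into an affine scheme over the base of `y₀`. -/
structure Fib (f : 𝒳 ⥤ᵇ 𝒴) (y₀ : 𝒴.obj) where
  /-- the classifying scheme -/
  Z : Over S
  /-- its structure map -/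
  ρ : Z ⟶ 𝒴.p.obj y₀
  aff : IsAffineHom ρ.left
  /-- the classifying map -/
  cls : ∀ (x : 𝒳.obj), (f.obj x ⟶ y₀) → (𝒳.p.obj x ⟶ Z)
  cls_ρ : ∀ (x : 𝒳.obj) (η : f.obj x ⟶ y₀), cls x η ≫ ρ = eqToHom (f.w_obj x).symm ≫ 𝒴.p.map η
  cls_nat : ∀ {x' x : 𝒳.obj} (a : x' ⟶ x) (η : f.obj x ⟶ y₀),
    cls x' (f.map a ≫ η) = 𝒳.p.map a ≫ cls x η
  existsUnique_hom : ∀ {x' x : 𝒳.obj} (η : f.obj x ⟶ y₀) (η' : f.obj x' ⟶ y₀) (g : 𝒳.p.obj x' ⟶ 𝒳.p.obj x),
    cls x' η' = g ≫ cls x η → ∃! a : x' ⟶ x, 𝒳.p.map a = g ∧ f.map a ≫ η = η'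
  realise : ∀ {T : Over S} (σ : T ⟶ Z),
    ∃ (x : 𝒳.obj) (η : f.obj x ⟶ y₀) (h : 𝒳.p.obj x = T), cls x η = eqToHom h ≫ σ

variable (hY : FibCat.IsFibGrpd 𝒴.p) {f : 𝒳 ⥤ᵇ 𝒴} {U : Over S} (y : FibCat.overCat U ⥤ᵇ 𝒴)
  {y₀ : 𝒴.obj} (hU : 𝒴.p.obj y₀ = U) (ev : y.obj (idObj U) ⟶ y₀) (hev : IsVert 𝒴.p ev)

/-- The morphism to `y₀` of an object of the fibre product. -/
def toEta (z : (FibCat.fp y f).obj) : f.obj z.obj.snd ⟶ y₀ :=
  z.obj.iso.inv ≫ y.map (toId z.obj.fst) ≫ ev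

include hev in
omit hU in
lemma p_map_ev : 𝒴.p.map ev = eqToHom hev.obj_eq := hev.map_eq

include hev in
lemma p_map_toId (g : (FibCat.overCat U).obj) :
    𝒴.p.map (y.map (toId g) ≫ ev) = eqToHom (y.w_obj g) ≫ g.hom ≫ eqToHom hU.symm := by
  rw [Functor.map_comp, map_map, hev.map_eq]
  show (eqToHom _ ≫ g.hom ≫ eqToHom _) ≫ eqToHom _ = _
  simp

/-- The structure map of the pair `(x, η)`. -/
def tmap (x : 𝒳.obj) (η : f.obj x ⟶ y₀) : 𝒳.p.obj x ⟶ U :=
  eqToHom (f.w_obj x).symm ≫ 𝒴.p.map η ≫ eqToHom hU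

include hY hU hev in
lemma exists_iso (x : 𝒳.obj) (η : f.obj x ⟶ y₀) :
    ∃ i : y.obj (Over.mk (tmap hU x η)) ≅ f.obj x, IsVert 𝒴.p i.hom ∧
      i.hom ≫ η = y.map (toId (Over.mk (tmap hU x η))) ≫ ev := by
  refine exists_vert_iso_of_lifts hY _ η ((y.w_obj _).trans (f.w_obj x).symm) ?_
  rw [p_map_toId y hU ev hev]
  simp [tmap]

/-- The object of the fibre product of a pair `(x, η)`. -/
def zObj (x : 𝒳.obj) (η : f.obj x ⟶ y₀) : (FibCat.fp y f).obj :=
  fpMk (F := y) (G := f) (Over.mk (tmap hU x η)) x (exists_iso hY y hU ev hev x η).choose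
    (exists_iso hY y hU ev hev x η).choose_spec.1

lemma zObj_toEta (x : 𝒳.obj) (η : f.obj x ⟶ y₀) : toEta y ev (zObj hY y hU ev hev x η) = η := by
  show (exists_iso hY y hU ev hev x η).choose.inv ≫ _ = η
  rw [Iso.inv_comp_eq]
  exact (exists_iso hY y hU ev hev x η).choose_spec.2.symm

omit hU in
lemma toEta_map {z z' : (FibCat.fp y f).obj} (m : z' ⟶ z) :
    f.map m.hom.snd ≫ toEta y ev z = toEta y ev z' := by
  have w : y.map m.hom.fst ≫ z.obj.iso.hom = z'.obj.iso.hom ≫ f.map m.hom.snd := m.hom.w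
  rw [toEta, toEta, ← cancel_epi z'.obj.iso.hom, ← Category.assoc, ← w]
  simp only [Category.assoc, Iso.hom_inv_id_assoc]
  rw [← y.toFunctor.map_comp_assoc, toId_naturality]

include hev in
lemma tmap_toEta (z : (FibCat.fp y f).obj) :
    tmap hU z.obj.snd (toEta y ev z) = eqToHom (fp_p_snd z) ≫ z.obj.fst.hom := by
  have hv : 𝒴.p.map z.obj.iso.inv = eqToHom _ := ((fp_isVert z).inv).map_eq
  rw [tmap, toEta, Functor.map_comp, hv, p_map_toId y hU ev hev]
  simp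

include hY hU hev in
lemma exists_fpHom {z z' : (FibCat.fp y f).obj} (a : z'.obj.snd ⟶ z.obj.snd)
    (ha : f.map a ≫ toEta y ev z = toEta y ev z') :
    ∃ m : z' ⟶ z, m.hom.snd = a ∧ m.hom.fst.left = eqToHom (fp_p_snd z').symm ≫ 𝒳.p.map a ≫ eqToHom (fp_p_snd z) := by
  have h1 : tmap hU z'.obj.snd (toEta y ev z') = 𝒳.p.map a ≫ tmap hU z.obj.snd (toEta y ev z) := by
    rw [← ha, tmap, tmap, Functor.map_comp, map_map]
    simp
  rw [tmap_toEta y hU ev hev, tmap_toEta y hU ev hev] at h1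
  let k : z'.obj.fst ⟶ z.obj.fst :=
    Over.homMk (eqToHom (fp_p_snd z').symm ≫ 𝒳.p.map a ≫ eqToHom (fp_p_snd z)) (by
      show (_ ≫ _ ≫ _) ≫ z.obj.fst.hom = z'.obj.fst.hom
      rw [Category.assoc, Category.assoc, ← h1]
      simp)
  refine ⟨fpHom k a ?_, rfl, rfl⟩
  refine hom_eq_of_comp_eq hY (toEta y ev z) ?_ ?_
  · rw [Functor.map_comp, Functor.map_comp, map_map, map_map, (fp_isVert z).map_eq, (fp_isVert z').map_eq]
    show (eqToHom _ ≫ k.left ≫ eqToHom _) ≫ eqToHom _ = _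
    simp [k]
  · rw [Category.assoc, Category.assoc, ha, toEta, toEta, Iso.hom_inv_id_assoc, Iso.hom_inv_id_assoc,
      ← y.toFunctor.map_comp_assoc, toId_naturality]

section Classify

variable {Z : Over S} (ρ : Z ⟶ U) (E : FibCat.overCat Z ⥤ᵇ FibCat.fp y f) (hE : FibCat.IsEquivOver E)
  (hρ : ∀ o : (FibCat.overCat Z).obj, (E.obj o).obj.fst.hom = eqToHom (E.w_obj o) ≫ o.hom ≫ ρ)

/-- The point classifying an object of the fibre product. -/
def clsZ (z : (FibCat.fp y f).obj) : z.obj.fst.left ⟶ Z :=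
  eqToHom ((((exists_vert_preimage hE z).choose_spec.choose_spec).obj_eq).symm.trans
      (E.w_obj (exists_vert_preimage hE z).choose)) ≫ (exists_vert_preimage hE z).choose.hom

lemma exists_clsZ (z : (FibCat.fp y f).obj) :
    ∃ (o : (FibCat.overCat Z).obj) (φ : E.obj o ≅ z) (h : z.obj.fst.left = o.left),
      IsVert (FibCat.fp y f).p φ.hom ∧ clsZ y E hE z = eqToHom h ≫ o.hom :=
  ⟨(exists_vert_preimage hE z).choose, (exists_vert_preimage hE z).choose_spec.choose, _,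
    (exists_vert_preimage hE z).choose_spec.choose_spec, rfl⟩

include hρ in
lemma clsZ_ρ (z : (FibCat.fp y f).obj) : clsZ y E hE z ≫ ρ = z.obj.fst.hom := by
  obtain ⟨o, φ, h, hv, e⟩ := exists_clsZ y E hE z
  have hl : φ.hom.hom.fst.left = eqToHom hv.obj_eq := hv.map_eq
  have hw := Over.w φ.hom.hom.fst
  rw [hρ o, hl] at hw
  rw [e, Category.assoc, ← cancel_epi (eqToHom hv.obj_eq)]
  refine Eq.trans ?_ hw.symm
  simp

lemma clsZ_nat {z z' : (FibCat.fp y f).obj} (m : z' ⟶ z) :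
    clsZ y E hE z' = m.hom.fst.left ≫ clsZ y E hE z := by
  obtain ⟨o, φ, h, hv, e⟩ := exists_clsZ y E hE z
  obtain ⟨o', φ', h', hv', e'⟩ := exists_clsZ y E hE z'
  haveI := full_of_isEquivOver hE
  obtain ⟨k, hk⟩ := E.toFunctor.map_surjective (φ'.hom ≫ m ≫ φ.inv)
  have hl : φ.inv.hom.fst.left = eqToHom hv.inv.obj_eq := hv.inv.map_eq
  have hl' : φ'.hom.hom.fst.left = eqToHom hv'.obj_eq := hv'.map_eq
  have hkl : (FibCat.fp y f).p.map (E.map k) = φ'.hom.hom.fst.left ≫ m.hom.fst.left ≫ φ.inv.hom.fst.left :=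
    congrArg (fun t => t.hom.fst.left) hk
  rw [map_map, hl, hl'] at hkl
  have hw := Over.w k
  rw [e, e', ← hw]
  have : k.left = eqToHom (E.w_obj o').symm ≫ (eqToHom hv'.obj_eq ≫ m.hom.fst.left ≫ eqToHom hv.inv.obj_eq) ≫
      eqToHom (E.w_obj o) := by
    rw [← hkl]
    simp
    rfl
  rw [this]
  simp

lemma clsZ_obj (o : (FibCat.overCat Z).obj) :
    clsZ y E hE (E.obj o) = eqToHom (E.w_obj o) ≫ o.hom := by
  obtain ⟨o', φ', h', hv', e'⟩ := exists_clsZ y E hE (E.obj o)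
  haveI := full_of_isEquivOver hE
  obtain ⟨k, hk⟩ := E.toFunctor.map_surjective φ'.hom
  have hkl : k.left = eqToHom ((E.w_obj o').symm.trans (hv'.obj_eq.trans (E.w_obj o))) := by
    have h1 := congrArg (FibCat.fp y f).p.map hk
    rw [map_map, hv'.map_eq] at h1
    rw [← cancel_epi (eqToHom (E.w_obj o')), ← cancel_mono (eqToHom (E.w_obj o).symm), Category.assoc]
    exact h1.trans (by simp)
  rw [e', ← Over.w k, hkl]
  simp

lemma existsUnique_of_clsZ {z z' : (FibCat.fp y f).obj} (g : z'.obj.fst.left ⟶ z.obj.fst.left)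
    (hg : clsZ y E hE z' = g ≫ clsZ y E hE z) : ∃! m : z' ⟶ z, m.hom.fst.left = g := by
  obtain ⟨o, φ, h, hv, e⟩ := exists_clsZ y E hE z
  obtain ⟨o', φ', h', hv', e'⟩ := exists_clsZ y E hE z'
  have hl : φ.hom.hom.fst.left = eqToHom hv.obj_eq := hv.map_eq
  have hl' : φ'.inv.hom.fst.left = eqToHom hv'.inv.obj_eq := hv'.inv.map_eq
  let k₀ : o'.left ⟶ o.left := eqToHom h'.symm ≫ g ≫ eqToHom h
  let k : o' ⟶ o := Over.homMk k₀ (by
    rw [e, e'] at hg
    simp only [k₀, Category.assoc, ← hg]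
    simp)
  have hEk : (FibCat.fp y f).p.map (E.map k) = eqToHom (E.w_obj o') ≫ k₀ ≫ eqToHom (E.w_obj o).symm :=
    map_map E k
  refine ⟨φ'.inv ≫ E.map k ≫ φ.hom, ?_, fun m hm => ?_⟩
  · show φ'.inv.hom.fst.left ≫ (E.map k).hom.fst.left ≫ φ.hom.hom.fst.left = g
    rw [hl, hl', show (E.map k).hom.fst.left = _ from hEk]
    simp [k₀]
  · haveI := full_of_isEquivOver hE
    obtain ⟨k', hk'⟩ := E.toFunctor.map_surjective (φ'.hom ≫ m ≫ φ.inv)
    have hkk : k' = k := Over.OverMorphism.ext (by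
      have h1 := congrArg (FibCat.fp y f).p.map hk'
      rw [map_map, Functor.map_comp, Functor.map_comp, hv'.map_eq, hv.inv.map_eq] at h1
      rw [← cancel_epi (eqToHom (E.w_obj o')), ← cancel_mono (eqToHom (E.w_obj o).symm), Category.assoc]
      refine h1.trans ?_
      show _ ≫ m.hom.fst.left ≫ _ = _ ≫ _
      rw [hm]
      simp [k, k₀])
    rw [← hkk, hk']
    simp

/-- The classifying data from an equivalence with a slice. -/
def fibMk (haff : IsAffineHom ρ.left) : Fib f y₀ where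
  Z := Z
  ρ := ρ ≫ eqToHom hU.symm
  aff := by
    rw [Over.comp_left]
    infer_instance
  cls x η := clsZ y E hE (zObj hY y hU ev hev x η)
  cls_ρ x η := by
    rw [← Category.assoc, clsZ_ρ y ρ E hE hρ (zObj hY y hU ev hev x η)]
    show tmap hU x η ≫ _ = _
    simp [tmap]
  cls_nat {x' x} a η := by
    obtain ⟨m, -, hm⟩ := exists_fpHom hY y hU ev hev (z := zObj hY y hU ev hev x η)
      (z' := zObj hY y hU ev hev x' (f.map a ≫ η)) a (by rw [zObj_toEta, zObj_toEta])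
    refine (clsZ_nat y E hE m).trans ?_
    rw [hm]
    simp

  existsUnique_hom {x' x} η η' g hg := by
    obtain ⟨m, hm, hu⟩ := existsUnique_of_clsZ y E hE (z := zObj hY y hU ev hev x η)
      (z' := zObj hY y hU ev hev x' η') g hg
    refine ⟨m.hom.snd, ⟨?_, ?_⟩, ?_⟩
    · rw [fp_map_snd m]
      show eqToHom _ ≫ m.hom.fst.left ≫ eqToHom _ = g
      rw [hm]
      simp
    · have h := toEta_map y ev m
      rwa [zObj_toEta, zObj_toEta] at h
    · rintro a ⟨ha, ha'⟩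
      obtain ⟨m', hm', hm''⟩ := exists_fpHom hY y hU ev hev (z := zObj hY y hU ev hev x η)
        (z' := zObj hY y hU ev hev x' η') a (by rw [zObj_toEta, zObj_toEta]; exact ha')
      rw [← hm', hu m' (hm''.trans (by rw [ha]; simp))]
  realise {T} σ := by
    let z := E.obj (Over.mk σ)
    refine ⟨z.obj.snd, toEta y ev z, (fp_p_snd z).trans (E.w_obj (Over.mk σ)), ?_⟩
    obtain ⟨m, -, hm⟩ := exists_fpHom hY y hU ev hev (z := z)
      (z' := zObj hY y hU ev hev z.obj.snd (toEta y ev z)) (𝟙 z.obj.snd) (by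
        rw [zObj_toEta]
        exact (congrArg (· ≫ toEta y ev z) (f.toFunctor.map_id z.obj.snd)).trans (Category.id_comp _))
    refine (clsZ_nat y E hE m).trans ?_
    rw [clsZ_obj y E hE (Over.mk σ), hm, show 𝒳.p.map (𝟙 z.obj.snd) = 𝟙 _ from 𝒳.p.map_id _]
    simp
    exact Category.id_comp _

end Classify

/-- An affine representable functor has classifying data at every object. -/
theorem nonempty_fib (hY : FibCat.IsFibGrpd 𝒴.p) (f : 𝒳 ⥤ᵇ 𝒴)
    (hf : AlgSt.RepByAlgSpWith (AlgSp.RepWith @IsAffineHom) f) (y₀ : 𝒴.obj) : Nonempty (Fib f y₀) := by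
  let y := overFunctor hY y₀ (U := 𝒴.p.obj y₀) rfl
  obtain ⟨ev, hev⟩ := overFunctor_eval hY y₀ (U := 𝒴.p.obj y₀) rfl
  obtain ⟨F, e, he, hP⟩ := hf (𝒴.p.obj y₀) y
  let φ := AlgSt.spMapOfOver (BasedFunctor.comp e (FibCat.fpFst y f))
  obtain ⟨Z, fst, snd, sq⟩ : ∃ (Z : Over S) (fst : (AlgSp.yon S).obj Z ⟶ F.obj) (snd : Z ⟶ 𝒴.p.obj y₀),
      IsPullback fst ((AlgSp.yon S).map snd) φ (𝟙 _) := by
    obtain ⟨V, s, t, h⟩ := hP.1 (𝟙 ((AlgSp.yon S).obj (𝒴.p.obj y₀)))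
    exact ⟨V, t, s, h⟩
  have haff : IsAffineHom snd.left := hP.2 _ _ _ sq
  haveI : IsIso fst := sq.isIso_fst_of_isIso
  haveI : IsIso fst.hom := inferInstanceAs (IsIso ((sheafToPresheaf _ _).map fst))
  let E : FibCat.overCat Z ⥤ᵇ FibCat.fp y f :=
    BasedFunctor.comp (BasedFunctor.comp (AlgSt.ofOverCat Z) (AlgSt.ofSpMap fst)) e
  have hE : FibCat.IsEquivOver E :=
    isEquivOver_comp (isEquivOver_comp (Groth.AlgStBasic.isEquivOver_ofOverCat Z)
      (isEquivOver_ofPshMap fst.hom)) he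
  refine ⟨fibMk hY y rfl ev.hom hev snd E hE (fun o => ?_) haff⟩
  have hw := congrArg (fun a => (a.hom.app (op o.left) ⟨o.hom⟩).down) sq.w
  have hw' : AlgSt.secHom (BasedFunctor.comp e (FibCat.fpFst y f)) ⟨o.left, fst.hom.app (op o.left) ⟨o.hom⟩⟩ =
      o.hom ≫ snd := hw
  rw [AlgSt.secHom] at hw'
  rw [← hw']
  simp
  rfl

end Groth.Misc13.ThetaAffine
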