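import Groth.Agent.Misc13.ThetaAffine.QuotExt
import Groth.Agent.Misc13.SComplete.PuncCover

/-!
# Unique extension from the punctured stacks into `Θ_R` and `ST_R`

The two charts `R[x]` and `R[s, t]/(s t − π)` are domains in which `(x, ϖ)`, resp. `(s, t)`, is a regular sequence, so
functions extend from the punctured charts; the torsor over the chart is integral, so its punctured part is dense.
-/

set_option autoImplicit false
set_option backward.isDefEq.respectTransparency false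
set_option backward.isDefEq.respectTransparency.types false
set_option maxHeartbeats 800000

universe u

open CategoryTheory CategoryTheory.Limits AlgebraicGeometry Opposite MonoidalCategory CartesianMonoidalCategory
open scoped TensorProduct Polynomial

noncomputable section

namespace Groth.Misc13.ThetaAffine

theorem dvd_of_dvd_pow_mul {B : Type u} [CommRing B] [IsDomain B] {a b : B} (ha : a ≠ 0)
    (h : ∀ c, a ∣ b * c → a ∣ c) (n m : ℕ) (p : B) (hp : a ^ n ∣ b ^ m * p) : a ^ n ∣ p := by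
  have h1 : ∀ (m : ℕ) (p : B), a ∣ b ^ m * p → a ∣ p := by
    intro m
    induction m with
    | zero => simp
    | succ k ih =>
      intro p hp
      refine ih p (h _ ?_)
      rwa [← mul_assoc, ← pow_succ']
  induction n generalizing p with
  | zero => simp
  | succ k ih =>
    obtain ⟨p', rfl⟩ := h1 m p ((dvd_pow_self a k.succ_ne_zero).trans hp)
    rw [mul_left_comm, pow_succ', mul_dvd_mul_iff_left ha] at hp
    rw [pow_succ']
    exact mul_dvd_mul_left a (ih p' hp)

section Ext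

variable {Z : Scheme.{u}}

/-- Restriction of functions. -/
abbrev rs {U V : Z.Opens} (h : U ≤ V) (x : Γ(Z, V)) : Γ(Z, U) := Z.presheaf.map (homOfLE h).op x

lemma rs_rs {U V W : Z.Opens} (h : U ≤ V) (h' : V ≤ W) (x : Γ(Z, W)) : rs h (rs h' x) = rs (h.trans h') x := by
  rw [rs, rs, rs, ← CommRingCat.comp_apply, ← Functor.map_comp]
  rfl

lemma rs_mul {U V : Z.Opens} (h : U ≤ V) (x y : Γ(Z, V)) : rs h (x * y) = rs h x * rs h y := map_mul _ _ _

theorem bijective_rs [IsAffine Z] [IsIntegral Z] {a b : Γ(Z, ⊤)} (ha : a ≠ 0) (hb : b ≠ 0)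
    (h : ∀ c, a ∣ b * c → a ∣ c) :
    Function.Bijective (rs (le_top : Z.basicOpen a ⊔ Z.basicOpen b ≤ ⊤)) := by
  have ne : ∀ {c : Γ(Z, ⊤)}, c ≠ 0 → Nonempty (Z.basicOpen c) := fun {c} hc => by
    have hbot : Z.basicOpen c ≠ ⊥ := fun e => hc ((basicOpen_eq_bot_iff c).1 e)
    obtain ⟨x, hx⟩ := (TopologicalSpace.Opens.ne_bot_iff_nonempty _).1 hbot
    exact ⟨⟨x, hx⟩⟩
  haveI : Nonempty (Z.basicOpen a) := ne ha
  haveI : Nonempty (Z.basicOpen (a * b)) := ne (mul_ne_zero ha hb)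
  have hab : Nonempty ((Z.basicOpen a ⊔ Z.basicOpen b : Z.Opens) : Set Z) :=
    Nonempty.map (fun x => ⟨x.1, Or.inl x.2⟩) (ne ha)
  refine ⟨@map_injective_of_isIntegral Z _ _ _ _ hab, fun f => ?_⟩
  obtain ⟨n, p, hp⟩ : ∃ (n : ℕ) (p : Γ(Z, ⊤)),
      rs le_sup_left f * rs (le_top : Z.basicOpen a ≤ ⊤) (a ^ n) = rs le_top p := by
    haveI := (isAffineOpen_top Z).isLocalization_basicOpen a
    obtain ⟨⟨p, _, n, rfl⟩, e⟩ := IsLocalization.surj (M := Submonoid.powers a) (rs le_sup_left f)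
    exact ⟨n, p, e⟩
  obtain ⟨m, q, hq⟩ : ∃ (m : ℕ) (q : Γ(Z, ⊤)),
      rs le_sup_right f * rs (le_top : Z.basicOpen b ≤ ⊤) (b ^ m) = rs le_top q := by
    haveI := (isAffineOpen_top Z).isLocalization_basicOpen b
    obtain ⟨⟨q, _, m, rfl⟩, e⟩ := IsLocalization.surj (M := Submonoid.powers b) (rs le_sup_right f)
    exact ⟨m, q, e⟩
  have hla : Z.basicOpen (a * b) ≤ Z.basicOpen a := by rw [Scheme.basicOpen_mul]; exact inf_le_left
  have hlb : Z.basicOpen (a * b) ≤ Z.basicOpen b := by rw [Scheme.basicOpen_mul]; exact inf_le_right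
  have key : p * b ^ m = q * a ^ n := by
    apply map_injective_of_isIntegral (X := Z) (homOfLE (le_top : Z.basicOpen (a * b) ≤ ⊤))
    have e₁ := congrArg (rs hla) hp
    have e₂ := congrArg (rs hlb) hq
    rw [rs_mul, rs_rs, rs_rs, rs_rs] at e₁ e₂
    show rs _ (p * b ^ m) = rs _ (q * a ^ n)
    rw [rs_mul, rs_mul]
    rw [← e₁, ← e₂]
    ring
  obtain ⟨c, hc⟩ := dvd_of_dvd_pow_mul ha h n m p ⟨q, by rw [mul_comm, key, mul_comm]⟩
  subst hc
  have hc' : q = b ^ m * c := mul_left_cancel₀ (pow_ne_zero n ha) (by rw [mul_comm _ q, ← key]; ring)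
  subst hc'
  refine ⟨c, Z.sheaf.eq_of_locally_eq₂ (homOfLE le_sup_left) (homOfLE le_sup_right) le_rfl _ _ ?_ ?_⟩
  · show rs le_sup_left (rs le_top c) = rs le_sup_left f
    rw [rs_rs]
    refine ((Z.toRingedSpace.isUnit_res_basicOpen a).pow n).mul_right_cancel ?_
    rw [← map_pow]
    refine Eq.trans ?_ hp.symm
    show rs _ c * rs _ (a ^ n) = rs _ (a ^ n * c)
    rw [rs_mul]
    exact mul_comm _ _
  · show rs le_sup_right (rs le_top c) = rs le_sup_right f
    rw [rs_rs]
    refine ((Z.toRingedSpace.isUnit_res_basicOpen b).pow m).mul_right_cancel ?_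
    rw [← map_pow]
    refine Eq.trans ?_ hq.symm
    show rs _ c * rs _ (b ^ m) = rs _ (b ^ m * c)
    rw [rs_mul]
    exact mul_comm _ _

theorem isIso_ι_appTop [IsAffine Z] [IsIntegral Z] {a b : Γ(Z, ⊤)} (ha : a ≠ 0) (hb : b ≠ 0)
    (h : ∀ c, a ∣ b * c → a ∣ c) : IsIso (Z.basicOpen a ⊔ Z.basicOpen b).ι.appTop := by
  rw [ConcreteCategory.isIso_iff_bijective, Scheme.Opens.ι_appTop]
  have key : ∀ (U : Z.Opens), U = Z.basicOpen a ⊔ Z.basicOpen b →
      Function.Bijective (rs (le_top : U ≤ ⊤)) := fun U hU => hU ▸ bijective_rs ha hb h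
  exact key _ (Scheme.Opens.ι_image_top _)

theorem existsUnique_ext [IsAffine Z] (V : Z.Opens) [IsIso V.ι.appTop] {W : Scheme.{u}} (ρ : W ⟶ Z) [IsAffineHom ρ]
    (σ : V.toScheme ⟶ W) (hσ : σ ≫ ρ = V.ι) : ∃! s : Z ⟶ W, s ≫ ρ = 𝟙 _ ∧ V.ι ≫ s = σ := by
  haveI : IsAffine W := isAffine_of_isAffineHom ρ
  let φ : Γ(W, ⊤) ⟶ Γ(Z, ⊤) := σ.appTop ≫ inv V.ι.appTop
  let s : Z ⟶ W := Z.toSpecΓ ≫ Spec.map φ ≫ W.isoSpec.inv
  have hs : s.appTop = φ := by
    have e : s ≫ W.toSpecΓ = Z.toSpecΓ ≫ Spec.map φ := by simp [s, Scheme.isoSpec]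
    rw [Scheme.toSpecΓ_naturality] at e
    exact Spec.map_injective ((cancel_epi Z.toSpecΓ).1 e)
  refine ⟨s, ⟨?_, ?_⟩, fun t ht => ?_⟩
  · apply ext_of_isAffine
    rw [Scheme.Hom.comp_appTop, hs, Scheme.Hom.id_appTop]
    show ρ.appTop ≫ σ.appTop ≫ inv V.ι.appTop = _
    rw [← Category.assoc, ← Scheme.Hom.comp_appTop, hσ, IsIso.hom_inv_id]
  · apply ext_of_isAffine
    rw [Scheme.Hom.comp_appTop, hs, Category.assoc, IsIso.inv_hom_id, Category.comp_id]
  · apply ext_of_isAffine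
    rw [hs, IsIso.eq_comp_inv, ← Scheme.Hom.comp_appTop, ht.2]

theorem eq_of_eqOn [IsIntegral Z] (O : Z.Opens) (hO : (O : Set Z).Nonempty) {W : Scheme.{u}} (ρ : W ⟶ Z)
    [IsAffineHom ρ] (s s' : Z ⟶ W) (hs : s ≫ ρ = 𝟙 _) (hs' : s' ≫ ρ = 𝟙 _) (he : O.ι ≫ s = O.ι ≫ s') : s = s' := by
  haveI : IsDominant O.ι := ⟨by
    rw [DenseRange, Scheme.Opens.range_ι]
    exact O.2.dense hO⟩
  exact ext_of_isDominant_of_isSeparated ρ (hs.trans hs'.symm) O.ι he

end Ext

section Chart

open ThetaS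

variable {R : Type u} [CommRing R]

instance isDomain_laurent {B : Type u} [CommRing B] [IsDomain B] [Algebra R B] : IsDomain (Lau R ⊗[R] B) :=
  ((Algebra.TensorProduct.comm R (Lau R) B).trans
    ((MonoidAlgebra.scalarTensorEquiv R B).restrictScalars R)).toMulEquiv.isDomain _

theorem isIntegral_gm_tensor (B : Type u) [CommRing B] [IsDomain B] [Algebra R B] :
    IsIntegral (Gm R ⊗ CoactBr.sp R B : Over (Spec (CommRingCat.of R))).left := by
  haveI : IsDomain (CommRingCat.of (Lau R ⊗[R] B)) := isDomain_laurent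
  exact IsIntegral.of_isIso (pullbackSpecIso R (Lau R) B).inv

/-- An element of `B` as a function on `Spec B`. -/
abbrev fnSp {B : Type u} [CommRing B] [Algebra R B] (q : B) : Γ((CoactBr.sp R B).left, ⊤) :=
  (Scheme.ΓSpecIso (CommRingCat.of B)).inv q

variable {S : Scheme.{u}}

theorem hasUniqueExt_chart {B : Type u} [CommRing B] [IsDomain B] [Algebra R B]
    (aX : AlgGrp.Action (Gm R) (CoactBr.sp R B)) (a b : B) (ha : a ≠ 0) (hb : b ≠ 0)
    (hreg : ∀ c, a ∣ b * c → a ∣ c)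
    (hinv : ∀ w, ((snd (Gm R) (CoactBr.sp R B)).left w ∈ (CoactBr.sp R B).left.basicOpen (fnSp a) →
        aX.act.left w ∈ (CoactBr.sp R B).left.basicOpen (fnSp a)) ∧
      ((snd (Gm R) (CoactBr.sp R B)).left w ∈ (CoactBr.sp R B).left.basicOpen (fnSp b) →
        aX.act.left w ∈ (CoactBr.sp R B).left.basicOpen (fnSp b)))
    (h : Spec (CommRingCat.of R) ⟶ S) :
    HasUniqueExt (overS h (AlgSt.QuotSt Scheme.fppfPrecoverage (Gm R) aX)) fun A =>
      A.P.left.basicOpen (A.φ.left.appTop (fnSp a)) ⊔ A.P.left.basicOpen (A.φ.left.appTop (fnSp b)) = ⊤ := by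
  haveI : IsDomain (CommRingCat.of B) := ‹IsDomain B›
  haveI : IsAffine (CoactBr.sp R B).left := isAffine_Spec _
  haveI : IsIntegral (CoactBr.sp R B).left := inferInstanceAs (IsIntegral (Spec (CommRingCat.of B)))
  let e := (Scheme.ΓSpecIso (CommRingCat.of B)).symm.commRingCatIsoToRingEquiv
  have ha' : fnSp (R := R) a ≠ 0 := (map_ne_zero_iff e e.injective).2 ha
  have hb' : fnSp (R := R) b ≠ 0 := (map_ne_zero_iff e e.injective).2 hb
  have hreg' : ∀ c, fnSp (R := R) a ∣ fnSp b * c → fnSp (R := R) a ∣ c := by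
    intro c hc
    obtain ⟨c, rfl⟩ := e.surjective c
    show e a ∣ e c
    change e a ∣ e b * e c at hc
    rw [← map_mul, map_dvd_iff] at hc
    rw [map_dvd_iff]
    exact hreg c hc
  let V := (CoactBr.sp R B).left.basicOpen (fnSp a) ⊔ (CoactBr.sp R B).left.basicOpen (fnSp b)
  have hinv' : (snd (Gm R) (CoactBr.sp R B)).left ⁻¹ᵁ V ≤ aX.act.left ⁻¹ᵁ V := fun w hw =>
    Or.imp (hinv w).1 (hinv w).2 hw
  haveI : IsIso V.ι.appTop := isIso_ι_appTop ha' hb' hreg'
  refine hasUniqueExt_quot h aX V _ (fun A => ?_) hinv' (fun ρ _ σ hσ => existsUnique_ext V ρ σ hσ)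
    fun ρ _ s s' hs hs' he => ?_
  · show _ ↔ A.φ.left ⁻¹ᵁ V = ⊤
    rw [← Scheme.preimage_basicOpen_top, ← Scheme.preimage_basicOpen_top]
    rfl
  · haveI : IsIntegral (B₀ aX).P.left := isIntegral_gm_tensor B
    refine eq_of_eqOn _ ?_ ρ s s' hs hs' he
    obtain ⟨x, hx⟩ : (V : Set (CoactBr.sp R B).left).Nonempty := by
      have hbot : (CoactBr.sp R B).left.basicOpen (fnSp a) ≠ ⊥ := fun e => ha' ((basicOpen_eq_bot_iff _).1 e)
      exact ((TopologicalSpace.Opens.ne_bot_iff_nonempty _).1 hbot).mono fun x hx => Or.inl hx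
    refine ⟨(Groth.QuotStk.unitSec (Gm R) (CoactBr.sp R B)).left x, ?_⟩
    show ((Gm R ◁ 𝟙 _) ≫ aX.act).left _ ∈ V
    rw [← Scheme.Hom.comp_apply, ← Over.comp_left, Groth.QuotStk.unitSec_act]
    exact hx

/-- The scaling action preserves the loci where `x`, resp. a constant, is invertible. -/
theorem lineAction_mem_iff (ϖ : R) (w : (Gm R ⊗ Line R : Over _).left) :
    ((lineAction R).act.left w ∈ (Line R).left.basicOpen (lineFn Polynomial.X) ↔
        (snd (Gm R) (Line R)).left w ∈ (Line R).left.basicOpen (lineFn Polynomial.X)) ∧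
      ((lineAction R).act.left w ∈ (Line R).left.basicOpen (lineFn (Polynomial.C ϖ)) ↔
        (snd (Gm R) (Line R)).left w ∈ (Line R).left.basicOpen (lineFn (Polynomial.C ϖ))) := by
  let Y := (Gm R ⊗ Line R : Over (Spec (CommRingCat.of R)))
  let K : Type u := Y.left.residueField w
  let g := Y.left.fromSpecResidueField w
  letI : Algebra R K := (Spec.preimage (g ≫ Y.hom)).hom.toAlgebra
  let gO : CoactBr.sp R K ⟶ Y := Over.homMk g (by
    show g ≫ Y.hom = Spec.map (CommRingCat.ofHom (algebraMap R K))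
    exact (Spec.map_preimage _).symm)
  obtain ⟨lam, hlam⟩ := Groth.Misc13.SComplete.exists_pt (B := Lau R) (gO ≫ fst _ _)
  obtain ⟨φ, hφ⟩ := Groth.Misc13.SComplete.exists_pt (B := R[X]) (gO ≫ snd _ _)
  have hφ' : φ = linePt (φ Polynomial.X) := Polynomial.algHom_ext (by simp [linePt])
  have hgO : gO = lift (CoactBr.pt lam) (CoactBr.pt φ) := by
    rw [hlam, hφ, ← comp_lift, lift_fst_snd, Category.comp_id]
  let x : (CoactBr.sp R K).left := IsLocalRing.closedPoint K
  have hx : gO.left x = w := Scheme.fromSpecResidueField_apply w x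
  have hsnd : (snd (Gm R) (Line R)).left w = (CoactBr.pt φ).left x := by
    rw [hφ]
    exact ((Scheme.Hom.comp_apply gO.left _ x).trans (congrArg _ hx)).symm
  have hw : (lineAction R).act.left w = (gO ≫ (lineAction R).act).left x :=
    ((Scheme.Hom.comp_apply gO.left _ x).trans (congrArg _ hx)).symm
  have hact := lineAction_pt lam (φ Polynomial.X)
  rw [← hφ', ← hgO] at hact
  have hu : lam (zPow R 1) ≠ 0 := fun h0 => by
    have h := congrArg lam (zPow_mul R 1 (-1))
    rw [map_mul, h0, zero_mul, add_neg_cancel, zPow_zero, map_one] at h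
    exact zero_ne_one h
  have key : ∀ (ψ : R[X] →ₐ[R] K) (q : R[X]),
      (CoactBr.pt ψ).left x ∈ (Line R).left.basicOpen (lineFn q) ↔ ψ q ≠ 0 := by
    intro ψ q
    have e : (Line R).left.basicOpen (lineFn q) = PrimeSpectrum.basicOpen q :=
      basicOpen_eq_of_affine (R := CommRingCat.of R[X]) q
    rw [e]
    show ψ q ∉ x.asIdeal ↔ _
    rw [(Ideal.eq_bot_or_top x.asIdeal).resolve_right x.isPrime.ne_top, Ideal.mem_bot]
  rw [hsnd, hw, hact, key, key, key, key]
  exact ⟨by simp [linePt, hu], by simp [linePt, show φ (Polynomial.C ϖ) = algebraMap R K ϖ from φ.commutes ϖ]⟩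

theorem hasUniqueExt_theta [IsDomain R] {ϖ : R} (hϖ : ϖ ≠ 0) (h : Spec (CommRingCat.of R) ⟶ S) :
    HasUniqueExt (Theta Scheme.fppfPrecoverage R h) (MissesOrigin ϖ) := by
  refine hasUniqueExt_chart (lineAction R) Polynomial.X (Polynomial.C ϖ) Polynomial.X_ne_zero
    (Polynomial.C_ne_zero.2 hϖ) (fun c hc => ?_)
    (fun w => ⟨(lineAction_mem_iff ϖ w).1.2, (lineAction_mem_iff ϖ w).2.2⟩) h
  rw [Polynomial.X_dvd_iff, Polynomial.coeff_C_mul, mul_eq_zero] at hc
  exact Polynomial.X_dvd_iff.2 (hc.resolve_left hϖ)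

variable {π : R}

theorem sFn_dvd_sub_aeval (p : MvPolynomial (Fin 2) R) :
    sFn R π ∣ Ideal.Quotient.mk _ p - Polynomial.aeval (tFn R π) (MvPolynomial.aeval ![(0 : R[X]), Polynomial.X] p) := by
  rw [← Ideal.mem_span_singleton, ← Ideal.Quotient.mk_eq_mk_iff_sub_mem]
  let I : Ideal (STRing R π) := Ideal.span {sFn R π}
  let m : MvPolynomial (Fin 2) R →ₐ[R] STRing R π := Ideal.Quotient.mkₐ R _
  let g : MvPolynomial (Fin 2) R →ₐ[R] R[X] := MvPolynomial.aeval ![(0 : R[X]), Polynomial.X]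
  refine congrArg (fun φ : MvPolynomial (Fin 2) R →ₐ[R] STRing R π ⧸ I => φ p)
    (?_ : (Ideal.Quotient.mkₐ R I).comp m =
      (Ideal.Quotient.mkₐ R I).comp ((Polynomial.aeval (tFn R π)).comp g))
  apply MvPolynomial.algHom_ext
  intro i
  fin_cases i
  · simp [m, g, I, Ideal.Quotient.eq_zero_iff_mem, Ideal.mem_span_singleton_self]
  · simp [m, g]

theorem isDomain_stRing [IsDomain R] [UniqueFactorizationMonoid R] (hπ : Prime π) : IsDomain (STRing R π) := by
  haveI : (Ideal.span {(MvPolynomial.X 0 * MvPolynomial.X 1 - MvPolynomial.C π : MvPolynomial (Fin 2) R)}).IsPrime := by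
    let E : MvPolynomial (Fin 2) R ≃ₐ[R] Polynomial (MvPolynomial (Fin 1) R) := MvPolynomial.finSuccEquiv R 1
    have hE : E (MvPolynomial.X 0 * MvPolynomial.X 1 - MvPolynomial.C π) =
        Polynomial.C (MvPolynomial.X 0) * Polynomial.X + Polynomial.C (-MvPolynomial.C π) := by
      have h0 : E (MvPolynomial.X 0) = Polynomial.X := MvPolynomial.finSuccEquiv_X_zero
      have h1 : E (MvPolynomial.X 1) = Polynomial.C (MvPolynomial.X 0) :=
        MvPolynomial.finSuccEquiv_X_succ (j := 0)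
      have h2 : E (MvPolynomial.C π) = Polynomial.C (MvPolynomial.C π) := E.commutes π
      rw [map_sub, map_mul, h0, h1, h2, map_neg, sub_eq_add_neg, mul_comm]
    have hp : Prime (MvPolynomial.X 0 * MvPolynomial.X 1 - MvPolynomial.C π : MvPolynomial (Fin 2) R) := by
      rw [← MulEquiv.prime_iff E.toMulEquiv]
      show Prime (E _)
      rw [hE]
      refine (Polynomial.irreducible_C_mul_X_add_C (MvPolynomial.X_ne_zero 0) (fun d hd hd' => ?_)).prime
      rw [dvd_neg] at hd'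
      by_contra hu
      have hassoc : Associated d (MvPolynomial.X 0 : MvPolynomial (Fin 1) R) :=
        ((MvPolynomial.X_prime (i := 0)).irreducible.dvd_iff.1 hd).resolve_left hu |>.symm
      obtain ⟨c, hc⟩ := hassoc.symm.dvd.trans hd'
      have := congrArg MvPolynomial.constantCoeff hc
      simp only [MvPolynomial.constantCoeff_C, map_mul, MvPolynomial.constantCoeff_X, zero_mul] at this
      exact hπ.ne_zero this
    exact (Ideal.span_singleton_prime hp.ne_zero).2 hp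
  exact Ideal.Quotient.isDomain _

theorem hasUniqueExt_st [IsDomain R] [UniqueFactorizationMonoid R] (hπ : Prime π) (h : Spec (CommRingCat.of R) ⟶ S) :
    HasUniqueExt (ST Scheme.fppfPrecoverage R π h) MissesNode := by
  haveI := isDomain_stRing hπ
  have hπ0 : algebraMap R (STRing R π) π ≠ 0 := fun h0 => hπ.ne_zero (by
    simpa using congrArg (stPt (1 : R) π (by simp)) h0)
  have hs : sFn R π ≠ 0 := fun h0 => hπ0 (by rw [← sFn_mul_tFn, h0, zero_mul])
  have ht : tFn R π ≠ 0 := fun h0 => hπ0 (by rw [← sFn_mul_tFn, h0, mul_zero])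
  refine hasUniqueExt_chart (stAction R π) (sFn R π) (tFn R π) hs ht (fun c hc => ?_)
    (fun w => ⟨(Groth.Misc13.SComplete.stAction_mem_iff w).1.2, (Groth.Misc13.SComplete.stAction_mem_iff w).2.2⟩) h
  let I : Ideal R := Ideal.span {π}
  let ψ : STRing R π →ₐ[R] (R ⧸ I)[X] := stPt 0 Polynomial.X (by
    rw [zero_mul, IsScalarTower.algebraMap_apply R (R ⧸ I) (R ⧸ I)[X], Ideal.Quotient.algebraMap_eq,
      Ideal.Quotient.eq_zero_iff_mem.2 (Ideal.mem_span_singleton_self π), map_zero])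
  obtain ⟨d, hd⟩ := hc
  have h1 : Polynomial.X * ψ c = (0 : (R ⧸ I)[X]) := by
    have := congrArg ψ hd
    simpa [ψ, map_mul] using this
  have h2 : ψ c = 0 := Polynomial.ext fun i => by
    simpa using congrArg (fun q => Polynomial.coeff q (i + 1)) h1
  obtain ⟨p, rfl⟩ := Ideal.Quotient.mk_surjective c
  let g : R[X] := MvPolynomial.aeval ![0, Polynomial.X] p
  have hg : g.map (Ideal.Quotient.mk I) = 0 := by
    rw [← h2]
    show Polynomial.mapAlgHom (Ideal.Quotient.mkₐ R I) g = MvPolynomial.aeval ![0, Polynomial.X] p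
    rw [← AlgHom.comp_apply]
    refine congrArg (fun φ : MvPolynomial (Fin 2) R →ₐ[R] (R ⧸ I)[X] => φ p) ?_
    apply MvPolynomial.algHom_ext
    intro i
    fin_cases i <;> simp
  obtain ⟨q, hq⟩ : Polynomial.C π ∣ g := by
    rw [Polynomial.C_dvd_iff_dvd_coeff]
    intro i
    rw [← Ideal.mem_span_singleton, ← Ideal.Quotient.eq_zero_iff_mem, ← Polynomial.coeff_map, hg,
      Polynomial.coeff_zero]
  have h3 : sFn R π ∣ Polynomial.aeval (tFn R π) g := by
    rw [hq, map_mul, Polynomial.aeval_C, ← sFn_mul_tFn, mul_assoc]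
    exact dvd_mul_right _ _
  simpa [g] using dvd_add (sFn_dvd_sub_aeval p) h3

end Chart

end Groth.Misc13.ThetaAffine
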