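import Groth.Agent.Misc13.ThetaAffine.AffFib
import Groth.Prelude.Def_ThetaS

/-!
# Dotted arrows against a full subcategory from extensions of sections of affine schemes
-/

set_option autoImplicit false
set_option backward.isDefEq.respectTransparency false
set_option backward.isDefEq.respectTransparency.types false

universe u

open CategoryTheory CategoryTheory.Limits AlgebraicGeometry Opposite
open Groth.StkBase

noncomputable section

namespace Groth.Misc13.ThetaAffine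

variable {S : Scheme.{u}}

/-- Affine schemes over the bases of the objects of `ℬ`, compatible with base change. -/
structure Sys (ℬ : AlgSt.Cat S) where
  /-- the schemes -/
  Z : ℬ.obj → Over S
  /-- the structure maps -/
  ρ : ∀ B, Z B ⟶ ℬ.p.obj B
  aff : ∀ B, IsAffineHom (ρ B).left
  /-- the transition maps -/
  τ : ∀ {B' B : ℬ.obj}, (B' ⟶ B) → (Z B' ⟶ Z B)
  τ_comp : ∀ {B'' B' B : ℬ.obj} (a : B'' ⟶ B') (b : B' ⟶ B), τ (a ≫ b) = τ a ≫ τ b
  cart : ∀ {B' B : ℬ.obj} (a : B' ⟶ B), IsPullback (τ a) (ρ B') (ρ B) (ℬ.p.map a)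

namespace Sys

variable {ℬ : AlgSt.Cat S} (D : Sys ℬ)

/-- A natural family of sections. -/
structure IsSec (s : ∀ B, ℬ.p.obj B ⟶ D.Z B) : Prop where
  sec : ∀ B, s B ≫ D.ρ B = 𝟙 _
  nat : ∀ {B' B : ℬ.obj} (a : B' ⟶ B), s B' ≫ D.τ a = ℬ.p.map a ≫ s B

/-- A natural family of sections on a full subcategory. -/
structure IsSecOn (M : ℬ.obj → Prop) (s : ∀ B, M B → (ℬ.p.obj B ⟶ D.Z B)) : Prop where
  sec : ∀ B h, s B h ≫ D.ρ B = 𝟙 _
  nat : ∀ {B' B : ℬ.obj} (h' : M B') (h : M B) (a : B' ⟶ B), s B' h' ≫ D.τ a = ℬ.p.map a ≫ s B h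

end Sys

/-- Natural families of sections of affine schemes extend uniquely from `M`. -/
def HasUniqueExt (ℬ : AlgSt.Cat S) (M : ℬ.obj → Prop) : Prop :=
  ∀ D : Sys ℬ,
    (∀ s₀ : ∀ B, M B → (ℬ.p.obj B ⟶ D.Z B), D.IsSecOn M s₀ →
      ∃ s, D.IsSec s ∧ ∀ B h, s B = s₀ B h) ∧
    ∀ s s' : ∀ B, ℬ.p.obj B ⟶ D.Z B, D.IsSec s → D.IsSec s' → (∀ B, M B → s B = s' B) → s = s'

section Square

variable {ℬ 𝒳 𝒴 : AlgSt.Cat S} {f : 𝒳 ⥤ᵇ 𝒴} (hY : FibCat.IsFibGrpd 𝒴.p) (D : ∀ y₀, Fib f y₀)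
  (bot : ℬ ⥤ᵇ 𝒴)

/-- The classifying scheme over the base of `B`. -/
def ZB (B : ℬ.obj) : Over S := (D (bot.obj B)).Z

/-- Its structure map. -/
def ρB (B : ℬ.obj) : ZB D bot B ⟶ ℬ.p.obj B := (D (bot.obj B)).ρ ≫ eqToHom (bot.w_obj B)

/-- The classifying map. -/
def clsB (B : ℬ.obj) (x : 𝒳.obj) (η : f.obj x ⟶ bot.obj B) : 𝒳.p.obj x ⟶ ZB D bot B := (D (bot.obj B)).cls x η

lemma clsB_ρB (B : ℬ.obj) (x : 𝒳.obj) (η : f.obj x ⟶ bot.obj B) :
    clsB D bot B x η ≫ ρB D bot B = eqToHom (f.w_obj x).symm ≫ 𝒴.p.map η ≫ eqToHom (bot.w_obj B) := by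
  rw [clsB, ρB, ← Category.assoc]
  erw [(D (bot.obj B)).cls_ρ]
  rw [Category.assoc]

lemma clsB_nat (B : ℬ.obj) {x' x : 𝒳.obj} (a : x' ⟶ x) (η : f.obj x ⟶ bot.obj B) :
    clsB D bot B x' (f.map a ≫ η) = 𝒳.p.map a ≫ clsB D bot B x η := (D (bot.obj B)).cls_nat a η

lemma existsUnique_homB (B : ℬ.obj) {x' x : 𝒳.obj} (η : f.obj x ⟶ bot.obj B) (η' : f.obj x' ⟶ bot.obj B)
    (g : 𝒳.p.obj x' ⟶ 𝒳.p.obj x) (hg : clsB D bot B x' η' = g ≫ clsB D bot B x η) :
    ∃! a : x' ⟶ x, 𝒳.p.map a = g ∧ f.map a ≫ η = η' := (D (bot.obj B)).existsUnique_hom η η' g hg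

lemma realiseB (B : ℬ.obj) {T : Over S} (σ : T ⟶ ZB D bot B) :
    ∃ (x : 𝒳.obj) (η : f.obj x ⟶ bot.obj B) (h : 𝒳.p.obj x = T), clsB D bot B x η = eqToHom h ≫ σ :=
  (D (bot.obj B)).realise σ

/-- The transition maps. -/
def τB {B' B : ℬ.obj} (a : B' ⟶ B) : ZB D bot B' ⟶ ZB D bot B :=
  eqToHom (realiseB D bot B' (𝟙 _)).choose_spec.choose_spec.choose.symm ≫
    clsB D bot B (realiseB D bot B' (𝟙 _)).choose
      ((realiseB D bot B' (𝟙 _)).choose_spec.choose ≫ bot.map a)

lemma cls_τB {B' B : ℬ.obj} (a : B' ⟶ B) (x : 𝒳.obj) (η : f.obj x ⟶ bot.obj B') :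
    clsB D bot B x (η ≫ bot.map a) = clsB D bot B' x η ≫ τB D bot a := by
  let xu := (realiseB D bot B' (𝟙 _)).choose
  let ηu := (realiseB D bot B' (𝟙 _)).choose_spec.choose
  have hu : 𝒳.p.obj xu = ZB D bot B' := (realiseB D bot B' (𝟙 _)).choose_spec.choose_spec.choose
  have hcls : clsB D bot B' xu ηu = eqToHom hu :=
    (realiseB D bot B' (𝟙 _)).choose_spec.choose_spec.choose_spec.trans (Category.comp_id _)
  obtain ⟨m, ⟨hm, hm'⟩, -⟩ := existsUnique_homB D bot B' ηu η (clsB D bot B' x η ≫ eqToHom hu.symm)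
    (by rw [hcls]; simp)
  rw [← hm', Category.assoc, clsB_nat, clsB_nat, hm, hcls]
  simp [τB, xu, ηu]

include hY in
lemma cart_τB {B' B : ℬ.obj} (a : B' ⟶ B) :
    IsPullback (τB D bot a) (ρB D bot B') (ρB D bot B) (ℬ.p.map a) := by
  have w : τB D bot a ≫ ρB D bot B = ρB D bot B' ≫ ℬ.p.map a := by
    obtain ⟨x, η, h, e⟩ := realiseB D bot B' (𝟙 _)
    rw [Category.comp_id] at e
    rw [← cancel_epi (eqToHom h), ← e, ← Category.assoc, ← cls_τB D bot a, ← Category.assoc (clsB D bot B' x η),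
      clsB_ρB, clsB_ρB, Functor.map_comp, map_map]
    simp
  have lift : ∀ {T : Over S} (σ : T ⟶ ZB D bot B) (t : T ⟶ ℬ.p.obj B'), σ ≫ ρB D bot B = t ≫ ℬ.p.map a →
      ∃! u : T ⟶ ZB D bot B', u ≫ τB D bot a = σ ∧ u ≫ ρB D bot B' = t := by
    intro T σ t hσ
    obtain ⟨x, η, h, e⟩ := realiseB D bot B σ
    subst h
    rw [eqToHom_refl, Category.id_comp] at e
    have hg : (eqToHom (f.w_obj x) ≫ t ≫ eqToHom (bot.w_obj B').symm) ≫ 𝒴.p.map (bot.map a) = 𝒴.p.map η := by
      rw [← e, clsB_ρB] at hσ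
      rw [map_map, ← cancel_mono (eqToHom (bot.w_obj B)), ← cancel_epi (eqToHom (f.w_obj x).symm)]
      simp [hσ]
    obtain ⟨η', ⟨hp, hc⟩, hu⟩ := factor_unique hY (bot.map a) η _ hg
    refine ⟨clsB D bot B' x η', ⟨?_, ?_⟩, ?_⟩
    · rw [← cls_τB, hc, e]
    · rw [clsB_ρB, hp]
      simp
    · rintro u ⟨hu₁, hu₂⟩
      obtain ⟨x', η'', h', e'⟩ := realiseB D bot B' u
      obtain ⟨m, ⟨hm, hm'⟩, -⟩ := existsUnique_homB D bot B η (η'' ≫ bot.map a) (eqToHom h') (by
        rw [cls_τB, e', Category.assoc, hu₁, e])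
      have hηη : f.map m ≫ η' = η'' := by
        refine hom_eq_of_comp_eq hY (bot.map a) ?_ ?_
        · have h1 := clsB_ρB D bot B' x' η''
          rw [e', Category.assoc, hu₂] at h1
          rw [Functor.map_comp, map_map, hm, hp, ← cancel_mono (eqToHom (bot.w_obj B')),
            ← cancel_epi (eqToHom (f.w_obj x').symm)]
          simp [← h1]
        · rw [Category.assoc, hc, hm']
      have h2 := clsB_nat D bot B' m η'
      rw [hηη, e', hm] at h2
      exact (cancel_epi (eqToHom h')).1 h2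
  refine IsPullback.of_isLimit' ⟨w⟩ (PullbackCone.IsLimit.mk w
    (fun s => (lift s.fst s.snd s.condition).exists.choose)
    (fun s => (lift s.fst s.snd s.condition).exists.choose_spec.1)
    (fun s => (lift s.fst s.snd s.condition).exists.choose_spec.2)
    (fun s m h₁ h₂ => (lift s.fst s.snd s.condition).unique ⟨h₁, h₂⟩
      (lift s.fst s.snd s.condition).exists.choose_spec))

/-- The system of affine schemes attached to `bot`. -/
def sys : Sys ℬ where
  Z := ZB D bot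
  ρ := ρB D bot
  aff B := by
    haveI := (D (bot.obj B)).aff
    rw [ρB, Over.comp_left]
    exact MorphismProperty.comp_mem @IsAffineHom _ _ inferInstance inferInstance
  τ := τB D bot
  τ_comp {B'' B' B} a b := by
    obtain ⟨x, η, h, e⟩ := realiseB D bot B'' (𝟙 _)
    rw [Category.comp_id] at e
    rw [← cancel_epi (eqToHom h), ← e, ← cls_τB, bot.toFunctor.map_comp, ← Category.assoc,
      cls_τB, cls_τB, Category.assoc]
  cart := cart_τB hY D bot

lemma exists_fn (s : ∀ B, ℬ.p.obj B ⟶ ZB D bot B) (hs : (sys hY D bot).IsSec s) :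
    ∃ (fn : ℬ ⥤ᵇ 𝒳) (β : bot ≅ BasedFunctor.comp fn f),
      ∀ B, clsB D bot B (fn.obj B) (isoApp β B).inv = eqToHom (fn.w_obj B) ≫ s B := by
  choose x η h e using fun B => realiseB D bot B (s B)
  have hηv : ∀ B, IsVert 𝒴.p (η B) := fun B => by
    refine ⟨(f.w_obj (x B)).trans ((h B).trans (bot.w_obj B).symm), ?_⟩
    have h1 := clsB_ρB D bot B (x B) (η B)
    have h2 : s B ≫ ρB D bot B = 𝟙 _ := hs.sec B
    rw [e, Category.assoc, h2] at h1
    rw [← cancel_epi (eqToHom (f.w_obj (x B)).symm), ← cancel_mono (eqToHom (bot.w_obj B)), Category.assoc]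
    refine h1.symm.trans ?_
    simp
  have mp : ∀ {B' B : ℬ.obj} (a : B' ⟶ B), ∃! m : x B' ⟶ x B,
      𝒳.p.map m = eqToHom (h B') ≫ ℬ.p.map a ≫ eqToHom (h B).symm ∧ f.map m ≫ η B = η B' ≫ bot.map a := by
    intro B' B a
    refine existsUnique_homB D bot B (η B) (η B' ≫ bot.map a) _ ?_
    have hn : s B' ≫ τB D bot a = ℬ.p.map a ≫ s B := hs.nat a
    rw [cls_τB, e, e, Category.assoc, hn]
    simp
  let fn : ℬ ⥤ᵇ 𝒳 :=
    { toFunctor :=
        { obj := x
          map := fun a => (mp a).exists.choose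
          map_id := fun B => (mp (𝟙 B)).unique (mp (𝟙 B)).exists.choose_spec
            ⟨by simp, by rw [f.toFunctor.map_id, bot.toFunctor.map_id]; simp⟩
          map_comp := fun {A B C} a b => (mp (a ≫ b)).unique (mp (a ≫ b)).exists.choose_spec
            ⟨by rw [Functor.map_comp, Functor.map_comp, (mp a).exists.choose_spec.1, (mp b).exists.choose_spec.1]
                simp,
              by rw [f.toFunctor.map_comp, bot.toFunctor.map_comp, Category.assoc, (mp b).exists.choose_spec.2,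
                reassoc_of% (mp a).exists.choose_spec.2]⟩ }
      w := CategoryTheory.Functor.ext h fun B' B a => (mp a).exists.choose_spec.1 }
  have hi : ∀ B, IsIso (η B) := fun B => (hηv B).isIso hY
  let c : ∀ B, bot.obj B ≅ (BasedFunctor.comp fn f).obj B := fun B =>
    haveI := hi B
    (asIso (η B)).symm
  refine ⟨fn, isoMk c (fun {B' B} a => ?_) (fun B => ?_), fun B => ?_⟩
  · haveI := hi B'
    haveI := hi B
    show bot.map a ≫ inv (η B) = inv (η B') ≫ f.map (mp a).exists.choose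
    rw [IsIso.eq_inv_comp, ← Category.assoc, IsIso.comp_inv_eq]
    exact (mp a).exists.choose_spec.2.symm
  · haveI := hi B
    exact (IsVert.inv (φ := asIso (η B)) (hηv B))
  · haveI := hi B
    rw [isoApp_isoMk]
    exact e B

variable (M : ℬ.obj → Prop)

/-- The sections on `M` given by a square. -/
def topSec (sq : LiftSq.Sq (AlgSt.subIncl ℬ M) f) (B : ℬ.obj) (hB : M B) : ℬ.p.obj B ⟶ ZB D sq.bot B :=
  eqToHom (sq.top.w_obj ⟨B, hB⟩).symm ≫ clsB D sq.bot B (sq.top.obj ⟨B, hB⟩) (isoApp sq.iso ⟨B, hB⟩).inv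

lemma isSecOn_topSec (sq : LiftSq.Sq (AlgSt.subIncl ℬ M) f) :
    (sys hY D sq.bot).IsSecOn M (topSec D M sq) where
  sec B hB := by
    show topSec D M sq B hB ≫ ρB D sq.bot B = _
    rw [topSec, Category.assoc, clsB_ρB, ((isVert_isoApp sq.iso ⟨B, hB⟩).inv).map_eq]
    simp
  nat {B' B} h' h a := by
    show topSec D M sq B' h' ≫ τB D sq.bot a = _ ≫ topSec D M sq B h
    let a' : (⟨B', h'⟩ : (AlgSt.fullSub ℬ M).obj) ⟶ ⟨B, h⟩ := ObjectProperty.homMk a
    have hn : (isoApp sq.iso ⟨B', h'⟩).inv ≫ sq.bot.map a =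
        f.map (sq.top.map a') ≫ (isoApp sq.iso ⟨B, h⟩).inv := by
      rw [Iso.inv_comp_eq, ← Category.assoc, Iso.eq_comp_inv]
      exact isoApp_naturality sq.iso a'
    rw [topSec, Category.assoc, ← cls_τB, hn, clsB_nat, map_map, topSec]
    simp
    rfl

include hY in
/-- Sections with the extension property give unique dotted arrows. -/
theorem liftsUniquely_of_hasUniqueExt (hX : FibCat.IsFibGrpd 𝒳.p) (hM : HasUniqueExt ℬ M)
    (hf : ∀ y₀, Nonempty (Fib f y₀)) :
    LiftSq.LiftsUniquely (AlgSt.subIncl ℬ M) f := by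
  intro sq
  let D : ∀ y₀, Fib f y₀ := fun y₀ => (hf y₀).some
  refine ⟨?_, fun d d' => ?_⟩
  · obtain ⟨s, hs, hext⟩ := (hM (sys hY D sq.bot)).1 _ (isSecOn_topSec hY D M sq)
    obtain ⟨fn, β, hβ⟩ := exists_fn hY D sq.bot s hs
    have key : ∀ A : (AlgSt.fullSub ℬ M).obj, ∃! u : fn.obj A.obj ⟶ sq.top.obj A,
        𝒳.p.map u = eqToHom ((fn.w_obj A.obj).trans (sq.top.w_obj A).symm) ∧
          f.map u ≫ (isoApp sq.iso A).inv = (isoApp β A.obj).inv := fun A => by
      refine existsUnique_homB D sq.bot A.obj _ _ _ ?_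
      rw [hβ, hext A.obj A.property]
      show eqToHom _ ≫ topSec D M sq A.obj A.property = _
      rw [topSec]
      simp
    choose u hu hu' using key
    have hiso : ∀ A, IsIso (u A) := fun A => isIso_of_isIso_map hX _ (by rw [(hu A).1]; infer_instance)
    let c : ∀ A, (BasedFunctor.comp (AlgSt.subIncl ℬ M) fn).obj A ≅ sq.top.obj A := fun A =>
      haveI := hiso A
      asIso (u A)
    refine ⟨⟨fn, isoMk c (fun {A' A} a => ?_) (fun A => ⟨_, (hu A).1⟩), β, ?_⟩⟩
    · show fn.map a.hom ≫ u A = u A' ≫ sq.top.map a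
      refine (existsUnique_homB D sq.bot A.obj (isoApp sq.iso A).inv
        ((isoApp β A'.obj).inv ≫ sq.bot.map a.hom) (𝒳.p.map (fn.map a.hom ≫ u A)) ?_).unique ⟨rfl, ?_⟩ ⟨?_, ?_⟩
      · have hb : (isoApp β A'.obj).inv ≫ sq.bot.map a.hom = f.map (fn.map a.hom ≫ u A) ≫ (isoApp sq.iso A).inv := by
          rw [f.toFunctor.map_comp, Category.assoc, (hu A).2, Iso.inv_comp_eq, ← Category.assoc, Iso.eq_comp_inv]
          exact isoApp_naturality β a.hom
        rw [hb, clsB_nat]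
      · rw [f.toFunctor.map_comp, Category.assoc, (hu A).2, Iso.eq_inv_comp, ← Category.assoc, Iso.comp_inv_eq]
        exact (isoApp_naturality β a.hom).symm
      · rw [Functor.map_comp, Functor.map_comp, (hu A).1, (hu A').1, map_map, map_map]
        simp
      · rw [f.toFunctor.map_comp, Category.assoc]
        have hn : f.map (sq.top.map a) ≫ (isoApp sq.iso A).inv = (isoApp sq.iso A').inv ≫ sq.bot.map a.hom := by
          rw [Iso.eq_inv_comp, ← Category.assoc, Iso.comp_inv_eq]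
          exact (isoApp_naturality sq.iso a).symm
        rw [hn, reassoc_of% (hu A').2]
    · refine natTrans_ext fun A => ?_
      show (isoApp β A.obj).hom ≫ f.map (u A) = (isoApp sq.iso A).hom
      rw [← cancel_mono (isoApp sq.iso A).inv, Category.assoc, (hu A).2, Iso.hom_inv_id, Iso.hom_inv_id]
  · have hsec : ∀ e : sq.Lift, ∃ s : ∀ B, ℬ.p.obj B ⟶ ZB D sq.bot B, (sys hY D sq.bot).IsSec s ∧
        (∀ B, clsB D sq.bot B (e.fn.obj B) (isoApp e.isoBot B).inv = eqToHom (e.fn.w_obj B) ≫ s B) ∧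
        ∀ (B : ℬ.obj) (hB : M B), s B = topSec D M sq B hB := by
      intro e
      refine ⟨fun B => eqToHom (e.fn.w_obj B).symm ≫ clsB D sq.bot B (e.fn.obj B) (isoApp e.isoBot B).inv,
        ⟨fun B => ?_, fun {B' B} a => ?_⟩, fun B => by simp, fun B hB => ?_⟩
      · show (_ ≫ _) ≫ ρB D sq.bot B = _
        rw [Category.assoc, clsB_ρB, ((isVert_isoApp e.isoBot B).inv).map_eq]
        simp
      · show (_ ≫ _) ≫ τB D sq.bot a = _
        have hn : (isoApp e.isoBot B').inv ≫ sq.bot.map a = f.map (e.fn.map a) ≫ (isoApp e.isoBot B).inv := by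
          rw [Iso.inv_comp_eq, ← Category.assoc, Iso.eq_comp_inv]
          exact isoApp_naturality e.isoBot a
        rw [Category.assoc, ← cls_τB, hn, clsB_nat, map_map]
        simp
      · let A : (AlgSt.fullSub ℬ M).obj := ⟨B, hB⟩
        have hw : (isoApp e.isoBot B).hom ≫ f.map (isoApp e.isoTop A).hom = (isoApp sq.iso A).hom :=
          congrArg (fun α => α.toNatTrans.app A) e.w
        have hw' : f.map (isoApp e.isoTop A).hom ≫ (isoApp sq.iso A).inv = (isoApp e.isoBot B).inv := by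
          rw [Iso.comp_inv_eq, Iso.eq_inv_comp]
          exact hw
        show eqToHom _ ≫ clsB D sq.bot B (e.fn.obj B) (isoApp e.isoBot B).inv = _
        refine (congrArg (fun η => eqToHom _ ≫ clsB D sq.bot B (e.fn.obj B) η) hw'.symm).trans ?_
        refine (congrArg (eqToHom _ ≫ ·) (clsB_nat D sq.bot B (isoApp e.isoTop A).hom (isoApp sq.iso A).inv)).trans ?_
        rw [(isVert_isoApp e.isoTop A).map_eq, topSec]
        simp
        rfl
    obtain ⟨s, hs, hcls, hM₁⟩ := hsec d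
    obtain ⟨s', hs', hcls', hM₂⟩ := hsec d'
    have hss : s = s' := (hM (sys hY D sq.bot)).2 s s' hs hs' fun B hB => (hM₁ B hB).trans (hM₂ B hB).symm
    have key : ∀ B, ∃! u : d.fn.obj B ⟶ d'.fn.obj B,
        𝒳.p.map u = eqToHom ((d.fn.w_obj B).trans (d'.fn.w_obj B).symm) ∧
          f.map u ≫ (isoApp d'.isoBot B).inv = (isoApp d.isoBot B).inv := fun B => by
      refine existsUnique_homB D sq.bot B _ _ _ ?_
      rw [hcls, hcls', hss]
      simp
    choose u hu hu' using key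
    have nat : ∀ {B' B : ℬ.obj} (a : B' ⟶ B), d.fn.map a ≫ u B = u B' ≫ d'.fn.map a := by
      intro B' B a
      have n1 : f.map (d.fn.map a) ≫ (isoApp d.isoBot B).inv = (isoApp d.isoBot B').inv ≫ sq.bot.map a := by
        rw [Iso.eq_inv_comp, ← Category.assoc, Iso.comp_inv_eq]
        exact (isoApp_naturality d.isoBot a).symm
      have n2 : f.map (d'.fn.map a) ≫ (isoApp d'.isoBot B).inv = (isoApp d'.isoBot B').inv ≫ sq.bot.map a := by
        rw [Iso.eq_inv_comp, ← Category.assoc, Iso.comp_inv_eq]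
        exact (isoApp_naturality d'.isoBot a).symm
      refine (existsUnique_homB D sq.bot B (isoApp d'.isoBot B).inv ((isoApp d.isoBot B').inv ≫ sq.bot.map a)
        (𝒳.p.map (d.fn.map a ≫ u B)) ?_).unique ⟨rfl, ?_⟩ ⟨?_, ?_⟩
      · rw [← clsB_nat, f.toFunctor.map_comp, Category.assoc, (hu B).2, n1]
      · rw [f.toFunctor.map_comp, Category.assoc, (hu B).2, n1]
      · rw [Functor.map_comp, Functor.map_comp, (hu B).1, (hu B').1, map_map, map_map]
        simp
      · rw [f.toFunctor.map_comp, Category.assoc, n2, reassoc_of% (hu B').2]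
    let θ : d.fn ⟶ d'.fn :=
      { toNatTrans := { app := u, naturality := fun B' B a => nat a }
        isHomLift' := fun B => IsVert.isHomLift ⟨_, (hu B).1⟩ (d.fn.w_obj B) }
    have wb : d.isoBot.hom ≫ BasedCategory.whiskerRight θ f = d'.isoBot.hom := natTrans_ext fun B => by
      show (isoApp d.isoBot B).hom ≫ f.map (u B) = (isoApp d'.isoBot B).hom
      rw [← cancel_mono (isoApp d'.isoBot B).inv, Category.assoc, (hu B).2, Iso.hom_inv_id, Iso.hom_inv_id]
    have wt : BasedCategory.whiskerLeft (AlgSt.subIncl ℬ M) θ ≫ d'.isoTop.hom = d.isoTop.hom :=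
      natTrans_ext fun A => by
        show u A.obj ≫ (isoApp d'.isoTop A).hom = (isoApp d.isoTop A).hom
        have w₁ : (isoApp d.isoBot A.obj).hom ≫ f.map (isoApp d.isoTop A).hom = (isoApp sq.iso A).hom :=
          congrArg (fun α => α.toNatTrans.app A) d.w
        have w₂ : (isoApp d'.isoBot A.obj).hom ≫ f.map (isoApp d'.isoTop A).hom = (isoApp sq.iso A).hom :=
          congrArg (fun α => α.toNatTrans.app A) d'.w
        have e₁ : f.map (isoApp d.isoTop A).hom ≫ (isoApp sq.iso A).inv = (isoApp d.isoBot A.obj).inv := by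
          rw [Iso.comp_inv_eq, Iso.eq_inv_comp]
          exact w₁
        have e₂ : f.map (isoApp d'.isoTop A).hom ≫ (isoApp sq.iso A).inv = (isoApp d'.isoBot A.obj).inv := by
          rw [Iso.comp_inv_eq, Iso.eq_inv_comp]
          exact w₂
        refine (existsUnique_homB D sq.bot A.obj (isoApp sq.iso A).inv (isoApp d.isoBot A.obj).inv
          (𝒳.p.map (isoApp d.isoTop A).hom) ?_).unique ⟨?_, ?_⟩ ⟨rfl, e₁⟩
        · rw [← clsB_nat, e₁]
        · rw [Functor.map_comp, (hu A.obj).1, (isVert_isoApp d'.isoTop A).map_eq,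
            (isVert_isoApp d.isoTop A).map_eq]
          simp
        · rw [f.toFunctor.map_comp, Category.assoc, e₂, (hu A.obj).2]
    refine ⟨{ default := ⟨θ, wt, wb⟩, uniq := fun θ' => LiftSq.Sq.Lift.hom_ext (natTrans_ext fun B => ?_) }⟩
    refine hu' B _ ⟨(isVert_app θ'.hom B).map_eq, ?_⟩
    have h1 : (isoApp d.isoBot B).hom ≫ f.map (θ'.hom.toNatTrans.app B) = (isoApp d'.isoBot B).hom :=
      congrArg (fun α => α.toNatTrans.app B) θ'.w_bot
    rw [Iso.comp_inv_eq, Iso.eq_inv_comp]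
    exact h1

end Square

end Groth.Misc13.ThetaAffine
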