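import Groth.Agent.Misc13.ThetaAffine.LiftSections
import Groth.Agent.QuotStk.QuotMap

/-!
# Extension of sections of affine schemes from an invariant open of a quotient stack
-/

set_option autoImplicit false
set_option backward.isDefEq.respectTransparency false
set_option backward.isDefEq.respectTransparency.types false
set_option maxHeartbeats 800000

universe u

open CategoryTheory CategoryTheory.Limits AlgebraicGeometry Opposite MonoidalCategory CartesianMonoidalCategory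
open Groth.StkBase
open Groth.QuotStk (trivT homOfPt ptOf ptOf_π ptOf_φ hom_ext_of_ptOf ptOf_homOfPt unitSec unitSec_act unitSec_naturality isFibGrpd_quotSt atlas)

noncomputable section

namespace Groth.Misc13.ThetaAffine

variable {S' S : Scheme.{u}} (h : S' ⟶ S) {G X : Over S'} [GrpObj G] (aX : AlgGrp.Action G X)


/-- The structure map of a locally trivial torsor is an effective epimorphism of schemes. -/
theorem effectiveEpi_π (B : (AlgSt.QuotObj Scheme.fppfPrecoverage G aX)) : EffectiveEpi B.π.left := by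
  rw [← Sieve.effectiveEpimorphic_singleton, Presieve.EffectiveEpimorphic.iff_forall_isSheafFor_yoneda]
  intro Z
  refine (GrothendieckTopology.Subcanonical.isSheaf_of_isRepresentable (J := Scheme.fppfTopology) _).isSheafFor _ ?_
  obtain ⟨R, hR, hs⟩ := B.loc
  refine GrothendieckTopology.superset_covering _ ?_ (Precoverage.generate_mem_toGrothendieck hR)
  rw [Sieve.generate_le_iff]
  intro T i hi
  obtain ⟨σ, hσ⟩ := hs i hi
  exact ⟨B.P.left, σ, B.π.left, Presieve.singleton.mk, hσ⟩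

/-- The trivial torsor over `X`. -/
abbrev B₀ : (AlgSt.QuotObj Scheme.fppfPrecoverage G aX) := trivT aX (𝟙 X)

/-- The morphism to the trivial torsor over `X` given by a point of `X`. -/
abbrev toB₀ {T : Over S'} (x : T ⟶ X) : trivT aX x ⟶ B₀ aX := (atlas aX).map (toId (Over.mk x))

/-- The tautological trivialisation of a torsor over its total space. -/
abbrev triv (B : (AlgSt.QuotObj Scheme.fppfPrecoverage G aX)) : (AlgSt.QuotObj Scheme.fppfPrecoverage G aX) := trivT aX (𝟙 B.P ≫ B.φ)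

/-- Its map to the torsor. -/
abbrev trivMap (B : (AlgSt.QuotObj Scheme.fppfPrecoverage G aX)) : triv aX B ⟶ B := homOfPt B (𝟙 B.P)

lemma exists_iso_trivT {D : (AlgSt.QuotObj Scheme.fppfPrecoverage G aX)} (q : D ⟶ B₀ aX) :
    ∃ i : D ≅ trivT aX (q.base : D.base ⟶ X), i.hom.base = 𝟙 D.base ∧
      i.hom ≫ toB₀ aX (q.base : D.base ⟶ X) = q := by
  obtain ⟨i, hi, he⟩ := exists_vert_iso_of_lifts (isFibGrpd_quotSt aX) q (toB₀ aX (q.base : D.base ⟶ X)) rfl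
    (Category.id_comp _).symm
  exact ⟨i, hi.map_eq, he⟩

variable (D : Sys (ThetaS.overS h (AlgSt.QuotSt Scheme.fppfPrecoverage G aX))) (V : X.left.Opens) (M : (AlgSt.QuotObj Scheme.fppfPrecoverage G aX) → Prop)

section Pullback

variable (s₀ : (ThetaS.overS h (AlgSt.QuotSt Scheme.fppfPrecoverage G aX)).p.obj (B₀ aX) ⟶ D.Z (B₀ aX)) (hs₀ : s₀ ≫ D.ρ (B₀ aX) = 𝟙 _)

/-- The section pulled back along a morphism to the trivial torsor over `X`. -/
def tSec {E : (AlgSt.QuotObj Scheme.fppfPrecoverage G aX)} (q : E ⟶ B₀ aX) : (ThetaS.overS h (AlgSt.QuotSt Scheme.fppfPrecoverage G aX)).p.obj E ⟶ D.Z E :=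
  (D.cart (B' := E) (B := B₀ aX) q).lift ((ThetaS.overS h (AlgSt.QuotSt Scheme.fppfPrecoverage G aX)).p.map q ≫ s₀) (𝟙 _) (by
    rw [Category.assoc, hs₀, Category.comp_id, Category.id_comp])

lemma tSec_τ {E : (AlgSt.QuotObj Scheme.fppfPrecoverage G aX)} (q : E ⟶ B₀ aX) : tSec h aX D s₀ hs₀ q ≫ D.τ q = (ThetaS.overS h (AlgSt.QuotSt Scheme.fppfPrecoverage G aX)).p.map q ≫ s₀ :=
  IsPullback.lift_fst _ _ _ _

lemma tSec_ρ {E : (AlgSt.QuotObj Scheme.fppfPrecoverage G aX)} (q : E ⟶ B₀ aX) : tSec h aX D s₀ hs₀ q ≫ D.ρ E = 𝟙 _ :=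
  IsPullback.lift_snd _ _ _ _

lemma tSec_comp {E' E : (AlgSt.QuotObj Scheme.fppfPrecoverage G aX)} (m : E' ⟶ E) (q : E ⟶ B₀ aX) :
    tSec h aX D s₀ hs₀ (m ≫ q) ≫ D.τ m = (ThetaS.overS h (AlgSt.QuotSt Scheme.fppfPrecoverage G aX)).p.map m ≫ tSec h aX D s₀ hs₀ q := by
  refine (D.cart q).hom_ext ?_ ?_
  · rw [Category.assoc, Category.assoc, ← D.τ_comp, tSec_τ, tSec_τ, Functor.map_comp, Category.assoc]
  · rw [Category.assoc, Category.assoc, (D.cart m).w, ← Category.assoc, tSec_ρ, tSec_ρ]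
    simp

lemma exists_pair_factor {E : (AlgSt.QuotObj Scheme.fppfPrecoverage G aX)} (q₁ q₂ : E ⟶ B₀ aX) :
    ∃ m : E ⟶ triv aX (B₀ aX), m ≫ toB₀ aX (𝟙 (B₀ aX).P ≫ (B₀ aX).φ) = q₁ ∧ m ≫ trivMap aX (B₀ aX) = q₂ := by
  obtain ⟨i, -, hi⟩ := exists_iso_trivT aX q₁
  let h₂ : trivT aX (q₁.base : E.base ⟶ X) ⟶ B₀ aX := i.inv ≫ q₂
  let σ := ptOf h₂
  let k : Over.mk (q₁.base : E.base ⟶ X) ⟶ Over.mk (𝟙 (B₀ aX).P ≫ (B₀ aX).φ) :=
    Over.homMk σ (by
      show σ ≫ 𝟙 (B₀ aX).P ≫ (B₀ aX).φ = _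
      rw [Category.id_comp]
      exact ptOf_φ h₂)
  refine ⟨i.hom ≫ (atlas aX).map k, ?_, ?_⟩
  · rw [Category.assoc]
    refine (congrArg (i.hom ≫ ·) ?_).trans hi
    refine ((atlas aX).toFunctor.map_comp k (toId _)).symm.trans ?_
    rw [toId_naturality]
  · rw [Category.assoc]
    refine (congrArg (i.hom ≫ ·) (show (atlas aX).map k ≫ trivMap aX (B₀ aX) = h₂ from ?_)).trans
      (i.hom_inv_id_assoc q₂)
    refine hom_ext_of_ptOf ?_ ?_
    · show σ ≫ 𝟙 _ ≫ (B₀ aX).π = h₂.base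
      rw [Category.id_comp]
      exact ptOf_π h₂
    · show unitSec G E.base ≫ (G ◁ σ) ≫ (G ◁ 𝟙 (B₀ aX).P) ≫ (B₀ aX).act.act = σ
      rw [MonoidalCategory.whiskerLeft_id, Category.id_comp]
      exact unitSec_act (B₀ aX).act σ

end Pullback

section Open

variable (hM : ∀ A : (AlgSt.QuotObj Scheme.fppfPrecoverage G aX), M A ↔ A.φ.left ⁻¹ᵁ V = ⊤)
  (hinv : (snd G X).left ⁻¹ᵁ V ≤ aX.act.left ⁻¹ᵁ V)

include hM in
lemma M_of_hom {A' A : (AlgSt.QuotObj Scheme.fppfPrecoverage G aX)} (a : A' ⟶ A) (hA : M A) : M A' := by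
  rw [hM] at hA ⊢
  rw [← a.wφ, Over.comp_left, Scheme.Hom.comp_preimage, hA]
  exact Scheme.Hom.preimage_top _

include hM hinv in
lemma M_trivT {T : Over S'} (x : T ⟶ X) (hx : ∀ t, x.left t ∈ V) : M (trivT aX x) := by
  rw [hM, eq_top_iff]
  intro w _
  show ((G ◁ x) ≫ aX.act).left w ∈ V
  rw [Over.comp_left, Scheme.Hom.comp_apply]
  refine hinv ?_
  show (snd G X).left ((G ◁ x).left w) ∈ V
  rw [← Scheme.Hom.comp_apply, ← Over.comp_left, whiskerLeft_snd, Over.comp_left, Scheme.Hom.comp_apply]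
  exact hx _

include hM in
lemma mem_of_M {E : (AlgSt.QuotObj Scheme.fppfPrecoverage G aX)} (hE : M E) (q : E ⟶ B₀ aX) (t : E.base.left) : (q.base : E.base ⟶ X).left t ∈ V := by
  obtain ⟨i, -, -⟩ := exists_iso_trivT aX q
  have h1 := (hM _).1 (M_of_hom aX V M hM i.inv hE)
  have e : unitSec G E.base ≫ (trivT aX (q.base : E.base ⟶ X)).φ = (q.base : E.base ⟶ X) :=
    unitSec_act aX (q.base : E.base ⟶ X)
  rw [← e, Over.comp_left, Scheme.Hom.comp_apply]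
  show (unitSec G E.base).left t ∈ (trivT aX (q.base : E.base ⟶ X)).φ.left ⁻¹ᵁ V
  rw [h1]
  trivial

/-- The open as an object over the base. -/
abbrev VObj : Over S' := Over.mk (V.ι ≫ X.hom)

/-- Its inclusion. -/
abbrev ιV : VObj V ⟶ X := Over.homMk V.ι rfl

include hM hinv in
lemma M_V : M (trivT aX (ιV V)) := M_trivT aX V M hM hinv _ fun t => t.2

include hM in
lemma exists_factor_V {E : (AlgSt.QuotObj Scheme.fppfPrecoverage G aX)} (hE : M E) (q : E ⟶ B₀ aX) :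
    ∃ m : E ⟶ trivT aX (ιV V), m ≫ toB₀ aX (ιV V) = q := by
  let kl : E.base.left ⟶ V.toScheme := IsOpenImmersion.lift V.ι (q.base : E.base ⟶ X).left (by
    rintro _ ⟨t, rfl⟩
    rw [Scheme.Opens.range_ι]
    exact mem_of_M aX V M hM hE q t)
  have hkl : kl ≫ V.ι = (q.base : E.base ⟶ X).left := IsOpenImmersion.lift_fac _ _ _
  let k : E.base ⟶ VObj V := Over.homMk kl (by
    show kl ≫ V.ι ≫ X.hom = E.base.hom
    rw [← Category.assoc, hkl]
    exact Over.w (q.base : E.base ⟶ X))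
  obtain ⟨m, ⟨-, hm⟩, -⟩ := factor_unique (isFibGrpd_quotSt aX) (toB₀ aX (ιV V)) q k (Over.OverMorphism.ext hkl)
  exact ⟨m, hm⟩

variable
  (hext : ∀ {W : Scheme.{u}} (ρ : W ⟶ X.left) [IsAffineHom ρ] (σ : V.toScheme ⟶ W), σ ≫ ρ = V.ι →
    ∃! s : X.left ⟶ W, s ≫ ρ = 𝟙 _ ∧ V.ι ≫ s = σ)
  (hdense : ∀ {W : Scheme.{u}} (ρ : W ⟶ (B₀ aX).P.left) [IsAffineHom ρ] (s s' : (B₀ aX).P.left ⟶ W),
    s ≫ ρ = 𝟙 _ → s' ≫ ρ = 𝟙 _ →
    ((B₀ aX).φ.left ⁻¹ᵁ V).ι ≫ s = ((B₀ aX).φ.left ⁻¹ᵁ V).ι ≫ s' → s = s')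

variable (s₀ : (ThetaS.overS h (AlgSt.QuotSt Scheme.fppfPrecoverage G aX)).p.obj (B₀ aX) ⟶ D.Z (B₀ aX)) (hs₀ : s₀ ≫ D.ρ (B₀ aX) = 𝟙 _)
  (s : ∀ B : (AlgSt.QuotObj Scheme.fppfPrecoverage G aX), M B → ((ThetaS.overS h (AlgSt.QuotSt Scheme.fppfPrecoverage G aX)).p.obj B ⟶ D.Z B)) (hs : D.IsSecOn M s)
  (hV : ∀ hv : M (trivT aX (ιV V)), s (trivT aX (ιV V)) hv ≫ D.τ (toB₀ aX (ιV V)) = (ThetaS.overS h (AlgSt.QuotSt Scheme.fppfPrecoverage G aX)).p.map (toB₀ aX (ιV V)) ≫ s₀)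

include hM hinv hs hV in
lemma sec_eq_tSec {E : (AlgSt.QuotObj Scheme.fppfPrecoverage G aX)} (hE : M E) (q : E ⟶ B₀ aX) : s E hE = tSec h aX D s₀ hs₀ q := by
  obtain ⟨m, rfl⟩ := exists_factor_V aX V M hM hE q
  refine (D.cart (B' := E) (B := B₀ aX) (m ≫ toB₀ aX (ιV V))).hom_ext ?_ ((hs.sec E hE).trans (tSec_ρ h aX D s₀ hs₀ _).symm)
  rw [tSec_τ, D.τ_comp, ← Category.assoc, hs.nat hE (M_V aX V M hM hinv) m, Category.assoc, hV, Functor.map_comp,
    Category.assoc]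

include hM hinv hdense hs hV in
lemma tSec_eq {E : (AlgSt.QuotObj Scheme.fppfPrecoverage G aX)} (q₁ q₂ : E ⟶ B₀ aX) : tSec h aX D s₀ hs₀ q₁ = tSec h aX D s₀ hs₀ q₂ := by
  let r₁ : triv aX (B₀ aX) ⟶ B₀ aX := toB₀ aX (𝟙 (B₀ aX).P ≫ (B₀ aX).φ)
  let r₂ : triv aX (B₀ aX) ⟶ B₀ aX := trivMap aX (B₀ aX)
  have key : tSec h aX D s₀ hs₀ r₁ = tSec h aX D s₀ hs₀ r₂ := by
    let O := (B₀ aX).φ.left ⁻¹ᵁ V
    let TO : Over S' := Over.mk (O.ι ≫ (B₀ aX).P.hom)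
    let ιO : TO ⟶ (B₀ aX).P := Over.homMk O.ι rfl
    let x : TO ⟶ X := ιO ≫ 𝟙 _ ≫ (B₀ aX).φ
    have hx : M (trivT aX x) := M_trivT aX V M hM hinv x fun t => by
      show (ιO ≫ 𝟙 _ ≫ (B₀ aX).φ).left t ∈ V
      rw [Category.id_comp, Over.comp_left, Scheme.Hom.comp_apply]
      exact t.2
    let mO : trivT aX x ⟶ triv aX (B₀ aX) :=
      (atlas aX).map (Over.homMk ιO rfl : Over.mk x ⟶ Over.mk (𝟙 (B₀ aX).P ≫ (B₀ aX).φ))
    have e₁ := tSec_comp h aX D s₀ hs₀ mO r₁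
    have e₂ := tSec_comp h aX D s₀ hs₀ mO r₂
    rw [← sec_eq_tSec h aX D V M hM hinv s₀ hs₀ s hs hV hx] at e₁ e₂
    have e := congrArg CommaMorphism.left (e₁.symm.trans e₂)
    haveI := D.aff (triv aX (B₀ aX))
    exact Over.OverMorphism.ext (hdense (D.ρ (triv aX (B₀ aX))).left _ _
      (congrArg CommaMorphism.left (tSec_ρ h aX D s₀ hs₀ r₁)) (congrArg CommaMorphism.left (tSec_ρ h aX D s₀ hs₀ r₂)) e)
  obtain ⟨m, h₁, h₂⟩ := exists_pair_factor aX q₁ q₂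
  refine (D.cart (B' := E) (B := triv aX (B₀ aX)) m).hom_ext ?_ ((tSec_ρ h aX D s₀ hs₀ q₁).trans (tSec_ρ h aX D s₀ hs₀ q₂).symm)
  rw [← h₁, ← h₂, tSec_comp, tSec_comp]
  exact congrArg _ key

include hM hinv hdense hs₀ hs hV in
lemma exists_sec : ∃ t : ∀ B : (AlgSt.QuotObj Scheme.fppfPrecoverage G aX), (ThetaS.overS h (AlgSt.QuotSt Scheme.fppfPrecoverage G aX)).p.obj B ⟶ D.Z B, D.IsSec t ∧ ∀ B hB, t B = s B hB := by
  have hd : ∀ B : (AlgSt.QuotObj Scheme.fppfPrecoverage G aX), ∃! t : (ThetaS.overS h (AlgSt.QuotSt Scheme.fppfPrecoverage G aX)).p.obj B ⟶ D.Z B,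
      (ThetaS.overS h (AlgSt.QuotSt Scheme.fppfPrecoverage G aX)).p.map (trivMap aX B) ≫ t = tSec h aX D s₀ hs₀ (toB₀ aX (𝟙 B.P ≫ B.φ)) ≫ D.τ (trivMap aX B) := by
    intro B
    haveI := effectiveEpi_π aX B
    let u : (ThetaS.overS h (AlgSt.QuotSt Scheme.fppfPrecoverage G aX)).p.obj (triv aX B) ⟶ D.Z B :=
      tSec h aX D s₀ hs₀ (toB₀ aX (𝟙 B.P ≫ B.φ)) ≫ D.τ (trivMap aX B)
    have hπ : ((ThetaS.overS h (AlgSt.QuotSt Scheme.fppfPrecoverage G aX)).p.map (trivMap aX B)).left = B.π.left := congrArg CommaMorphism.left (Category.id_comp B.π)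
    have hcompat : ∀ {Z : Scheme.{u}} (g₁ g₂ : Z ⟶ B.P.left), g₁ ≫ B.π.left = g₂ ≫ B.π.left →
        g₁ ≫ u.left = g₂ ≫ u.left := by
      intro Z g₁ g₂ hg
      let T : Over S' := Over.mk (g₁ ≫ B.P.hom)
      let σ₁ : T ⟶ B.P := Over.homMk g₁ rfl
      let σ₂ : T ⟶ B.P := Over.homMk g₂ (by
        show g₂ ≫ B.P.hom = g₁ ≫ B.P.hom
        rw [← Over.w B.π, ← Category.assoc, ← hg, Category.assoc])
      let x : T ⟶ X := σ₁ ≫ 𝟙 B.P ≫ B.φ
      let k₁ : trivT aX x ⟶ triv aX B :=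
        (atlas aX).map (Over.homMk σ₁ rfl : Over.mk x ⟶ Over.mk (𝟙 B.P ≫ B.φ))
      obtain ⟨k₂, ⟨hk₂, hk₂'⟩, -⟩ := factor_unique (isFibGrpd_quotSt aX) (trivMap aX B) (k₁ ≫ trivMap aX B) σ₂
        (Over.OverMorphism.ext (show g₂ ≫ (𝟙 B.P ≫ B.π).left = g₁ ≫ (𝟙 B.P ≫ B.π).left by
          rw [Category.id_comp]; exact hg.symm))
      have e : (ThetaS.overS h (AlgSt.QuotSt Scheme.fppfPrecoverage G aX)).p.map k₁ ≫ u = (ThetaS.overS h (AlgSt.QuotSt Scheme.fppfPrecoverage G aX)).p.map k₂ ≫ u := by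
        rw [← Category.assoc ((ThetaS.overS h (AlgSt.QuotSt Scheme.fppfPrecoverage G aX)).p.map k₁), ← tSec_comp, ← Category.assoc ((ThetaS.overS h (AlgSt.QuotSt Scheme.fppfPrecoverage G aX)).p.map k₂), ← tSec_comp,
          Category.assoc, Category.assoc, ← D.τ_comp, ← D.τ_comp, hk₂',
          tSec_eq h aX D V M hM hinv hdense s₀ hs₀ s hs hV]
      have e' := congrArg CommaMorphism.left e
      change g₁ ≫ u.left = (k₂.base).left ≫ u.left at e'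
      rw [e']
      exact congrArg (fun m => m.left ≫ u.left) hk₂
    let t₀ := EffectiveEpi.desc B.π.left u.left hcompat
    have ht₀ : B.π.left ≫ t₀ = u.left := EffectiveEpi.fac _ _ _
    refine ⟨Over.homMk t₀ ?_, Over.OverMorphism.ext ?_, fun t ht => Over.OverMorphism.ext ?_⟩
    · rw [← cancel_epi B.π.left, ← Category.assoc, ht₀, Over.w u, ← hπ]
      exact (Over.w ((ThetaS.overS h (AlgSt.QuotSt Scheme.fppfPrecoverage G aX)).p.map (trivMap aX B))).symm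
    · show ((ThetaS.overS h (AlgSt.QuotSt Scheme.fppfPrecoverage G aX)).p.map (trivMap aX B)).left ≫ t₀ = u.left
      rw [hπ, ht₀]
    · show t.left = t₀
      rw [← cancel_epi B.π.left, ht₀, ← hπ]
      exact congrArg CommaMorphism.left ht
  choose t ht ht' using hd
  have hepi : ∀ B : (AlgSt.QuotObj Scheme.fppfPrecoverage G aX), Epi ((ThetaS.overS h (AlgSt.QuotSt Scheme.fppfPrecoverage G aX)).p.map (trivMap aX B)) := fun B => by
    haveI := effectiveEpi_π aX B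
    have hπ : ((ThetaS.overS h (AlgSt.QuotSt Scheme.fppfPrecoverage G aX)).p.map (trivMap aX B)).left = B.π.left := congrArg CommaMorphism.left (Category.id_comp B.π)
    refine ⟨fun {W} a b hab => Over.OverMorphism.ext ?_⟩
    rw [← cancel_epi B.π.left, ← hπ]
    exact congrArg CommaMorphism.left hab
  refine ⟨t, ⟨fun B => ?_, fun {B' B} a => ?_⟩, fun B hB => ?_⟩
  · haveI := hepi B
    rw [← cancel_epi ((ThetaS.overS h (AlgSt.QuotSt Scheme.fppfPrecoverage G aX)).p.map (trivMap aX B)), ← Category.assoc, ht, Category.assoc, (D.cart (trivMap aX B)).w,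
      ← Category.assoc, tSec_ρ, Category.id_comp, Category.comp_id]
  · haveI := hepi B'
    obtain ⟨m, ⟨-, hm⟩, -⟩ := factor_unique (isFibGrpd_quotSt aX) (trivMap aX B) (trivMap aX B' ≫ a) a.top (by
      show a.top ≫ 𝟙 _ ≫ B.π = (𝟙 _ ≫ B'.π) ≫ a.base
      rw [Category.id_comp, Category.id_comp, a.cart.w])
    rw [← cancel_epi ((ThetaS.overS h (AlgSt.QuotSt Scheme.fppfPrecoverage G aX)).p.map (trivMap aX B')), ← Category.assoc, ht, Category.assoc, ← D.τ_comp,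
      ← Category.assoc ((ThetaS.overS h (AlgSt.QuotSt Scheme.fppfPrecoverage G aX)).p.map (trivMap aX B')), ← Functor.map_comp, ← hm, Functor.map_comp, Category.assoc, ht,
      ← Category.assoc, ← tSec_comp, Category.assoc, ← D.τ_comp,
      tSec_eq h aX D V M hM hinv hdense s₀ hs₀ s hs hV]
  · haveI := hepi B
    rw [← cancel_epi ((ThetaS.overS h (AlgSt.QuotSt Scheme.fppfPrecoverage G aX)).p.map (trivMap aX B)), ht,
      ← sec_eq_tSec h aX D V M hM hinv s₀ hs₀ s hs hV (M_of_hom aX V M hM (trivMap aX B) hB)]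
    exact hs.nat _ hB (trivMap aX B)

end Open

include h in
/-- Sections extend uniquely from an invariant open with the extension property. -/
theorem hasUniqueExt_quot (V : X.left.Opens) (M : (AlgSt.QuotObj Scheme.fppfPrecoverage G aX) → Prop)
    (hM : ∀ A : (AlgSt.QuotObj Scheme.fppfPrecoverage G aX), M A ↔ A.φ.left ⁻¹ᵁ V = ⊤)
    (hinv : (snd G X).left ⁻¹ᵁ V ≤ aX.act.left ⁻¹ᵁ V)
    (hext : ∀ {W : Scheme.{u}} (ρ : W ⟶ X.left) [IsAffineHom ρ] (σ : V.toScheme ⟶ W), σ ≫ ρ = V.ι →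
      ∃! s : X.left ⟶ W, s ≫ ρ = 𝟙 _ ∧ V.ι ≫ s = σ)
    (hdense : ∀ {W : Scheme.{u}} (ρ : W ⟶ (B₀ aX).P.left) [IsAffineHom ρ] (s s' : (B₀ aX).P.left ⟶ W),
      s ≫ ρ = 𝟙 _ → s' ≫ ρ = 𝟙 _ →
      ((B₀ aX).φ.left ⁻¹ᵁ V).ι ≫ s = ((B₀ aX).φ.left ⁻¹ᵁ V).ι ≫ s' → s = s') :
    HasUniqueExt (ThetaS.overS h (AlgSt.QuotSt Scheme.fppfPrecoverage G aX)) M := by
  intro D
  haveI := D.aff (B₀ aX)
  have hvp : ((ThetaS.overS h (AlgSt.QuotSt Scheme.fppfPrecoverage G aX)).p.map (toB₀ aX (ιV V))).left = V.ι := rfl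
  refine ⟨fun s hs => ?_, fun t t' ht ht' heq => ?_⟩
  · let σ : (ThetaS.overS h (AlgSt.QuotSt Scheme.fppfPrecoverage G aX)).p.obj (trivT aX (ιV V)) ⟶ D.Z (B₀ aX) := s _ (M_V aX V M hM hinv) ≫ D.τ (toB₀ aX (ιV V))
    have hσ : σ.left ≫ (D.ρ (B₀ aX)).left = V.ι := by
      have e : σ ≫ D.ρ (B₀ aX) = (ThetaS.overS h (AlgSt.QuotSt Scheme.fppfPrecoverage G aX)).p.map (toB₀ aX (ιV V)) := by
        show (_ ≫ _) ≫ _ = _
        rw [Category.assoc, (D.cart _).w, ← Category.assoc, hs.sec, Category.id_comp]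
      exact (congrArg CommaMorphism.left e).trans hvp
    obtain ⟨s₀l, ⟨h₁, h₂⟩, -⟩ := hext (D.ρ (B₀ aX)).left σ.left hσ
    let s₀ : (ThetaS.overS h (AlgSt.QuotSt Scheme.fppfPrecoverage G aX)).p.obj (B₀ aX) ⟶ D.Z (B₀ aX) := Over.homMk s₀l (by
      rw [← Over.w (D.ρ (B₀ aX)), ← Category.assoc, h₁]
      exact Category.id_comp _)
    exact exists_sec h aX D V M hM hinv hdense s₀ (Over.OverMorphism.ext h₁) s hs
      fun hv => Over.OverMorphism.ext h₂.symm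
  · have h0 : t (B₀ aX) = t' (B₀ aX) := Over.OverMorphism.ext (by
      let σ := t (trivT aX (ιV V)) ≫ D.τ (toB₀ aX (ιV V))
      have hσ : σ.left ≫ (D.ρ (B₀ aX)).left = V.ι := by
        have e : σ ≫ D.ρ (B₀ aX) = (ThetaS.overS h (AlgSt.QuotSt Scheme.fppfPrecoverage G aX)).p.map (toB₀ aX (ιV V)) := by
          show (_ ≫ _) ≫ _ = _
          rw [Category.assoc, (D.cart _).w, ← Category.assoc, ht.sec, Category.id_comp]
        exact (congrArg CommaMorphism.left e).trans hvp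
      have e₁ := congrArg CommaMorphism.left (ht.nat (toB₀ aX (ιV V)))
      have e₂ := congrArg CommaMorphism.left (ht'.nat (toB₀ aX (ιV V)))
      refine (hext (D.ρ (B₀ aX)).left σ.left hσ).unique
        ⟨congrArg CommaMorphism.left (ht.sec _), e₁.symm⟩ ⟨congrArg CommaMorphism.left (ht'.sec _), ?_⟩
      refine e₂.symm.trans ?_
      show (t' _ ≫ _).left = σ.left
      rw [← heq _ (M_V aX V M hM hinv)])
    funext B
    haveI := effectiveEpi_π aX B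
    have hπ : ((ThetaS.overS h (AlgSt.QuotSt Scheme.fppfPrecoverage G aX)).p.map (trivMap aX B)).left = B.π.left := congrArg CommaMorphism.left (Category.id_comp B.π)
    have hC : t (triv aX B) = t' (triv aX B) := by
      refine (D.cart (B' := triv aX B) (toB₀ aX (𝟙 B.P ≫ B.φ))).hom_ext ?_ ((ht.sec _).trans (ht'.sec _).symm)
      rw [ht.nat, ht'.nat, h0]
    apply Over.OverMorphism.ext
    rw [← cancel_epi B.π.left, ← hπ]
    exact congrArg CommaMorphism.left (((ht.nat (trivMap aX B)).symm.trans (by rw [hC])).trans (ht'.nat (trivMap aX B)))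

end Groth.Misc13.ThetaAffine
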